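import Groth.Agent.Lib.EGA2.ProjBaseChange
import Groth.Prelude.Def_RelProj4
import Groth.Prelude.Def_RelSpec

/-!
Relative spectra, chart by chart: local properties of maps and cartesian squares.
-/

universe u

open CategoryTheory CategoryTheory.Limits AlgebraicGeometry TopologicalSpace Opposite

noncomputable section

namespace Groth.Agent.SymAlg11

variable {S : Scheme.{u}}

/-- The chart square of a map of relative spectra. -/
theorem isPullback_ι_specMap {A B : RelSpec.QCAlg S} (ψ : A ⟶ B) (U : S.Opens) (hU : IsAffineOpen U) :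
    IsPullback (B.ι U hU) (Spec.map (ψ.hom.app (op U))) (RelSpec.QCAlg.specMap ψ) (A.ι U hU) := by
  refine (IsOpenImmersion.isPullback (Spec.map (ψ.hom.app (op U))) (B.ι U hU) (A.ι U hU)
    (RelSpec.QCAlg.specMap ψ) ?_ ?_).flip
  · exact RelSpec.QCAlg.ι_specMap U hU ψ
  · rw [← A.π_preimage U hU, ← Scheme.Hom.comp_preimage, RelSpec.QCAlg.specMap_π, B.π_preimage U hU]

/-- A local property of a map of relative spectra can be checked on the rings over the affine opens. -/
theorem specMap_of_forall (P : MorphismProperty Scheme.{u}) [IsZariskiLocalAtTarget P]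
    {A B : RelSpec.QCAlg S} (ψ : A ⟶ B)
    (h : ∀ (U : S.Opens) (_ : IsAffineOpen U), P (Spec.map (ψ.hom.app (op U)))) :
    P (RelSpec.QCAlg.specMap ψ) := by
  refine IsZariskiLocalAtTarget.of_openCover A.glueData.cover fun U => ?_
  obtain ⟨U, hU⟩ := U
  have H := isPullback_ι_specMap ψ U hU
  change P (pullback.snd (RelSpec.QCAlg.specMap ψ) (A.ι U hU))
  rw [← H.isoPullback_inv_snd]
  exact MorphismProperty.RespectsIso.precomp P H.isoPullback.inv _ (h U hU)

/-- A property local at the source, stable under composition with open immersions, of a relative spectrum. -/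
theorem π_of_forall (P : MorphismProperty Scheme.{u}) [IsZariskiLocalAtSource P]
    [P.IsStableUnderComposition] (hP : ∀ {X Y : Scheme.{u}} (f : X ⟶ Y) [IsOpenImmersion f], P f)
    (A : RelSpec.QCAlg S)
    (h : ∀ (U : S.Opens) (_ : IsAffineOpen U), P (Spec.map (A.str.app (op U)))) : P A.π := by
  refine IsZariskiLocalAtSource.of_openCover A.glueData.cover fun U => ?_
  obtain ⟨U, hU⟩ := U
  change P (A.ι U hU ≫ A.π)
  rw [A.ι_π U hU]
  exact P.comp_mem _ _ (h U hU) (hP _)

/-- The chart square of a relative spectrum over its base. -/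
theorem isPullback_ι_π (A : RelSpec.QCAlg S) (U : S.Opens) (hU : IsAffineOpen U) :
    IsPullback (A.ι U hU) (Spec.map (A.str.app (op U))) A.π hU.fromSpec := by
  refine (IsOpenImmersion.isPullback (Spec.map (A.str.app (op U))) (A.ι U hU) hU.fromSpec A.π
    ?_ ?_).flip
  · exact A.ι_π U hU
  · rw [hU.opensRange_fromSpec, A.π_preimage U hU]

/-- A map of relative spectra over a map of bases is cartesian if it is on rings over affine opens. -/
theorem isPullback_spec_of_isPushout {S' : Scheme.{u}} (g : S' ⟶ S) (A : RelSpec.QCAlg S)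
    (B : RelSpec.QCAlg S') (h : B.spec ⟶ A.spec)
    (φ : ∀ (U : S.Opens) (_ : IsAffineOpen U) (U' : S'.Opens) (_ : IsAffineOpen U') (_ : U' ≤ g ⁻¹ᵁ U),
      A.presheaf.obj (op U) ⟶ B.presheaf.obj (op U'))
    (hh : ∀ (U : S.Opens) (hU : IsAffineOpen U) (U' : S'.Opens) (hU' : IsAffineOpen U')
      (hle : U' ≤ g ⁻¹ᵁ U), B.ι U' hU' ≫ h = Spec.map (φ U hU U' hU' hle) ≫ A.ι U hU)
    (hpo : ∀ (U : S.Opens) (hU : IsAffineOpen U) (U' : S'.Opens) (hU' : IsAffineOpen U')
      (hle : U' ≤ g ⁻¹ᵁ U),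
      IsPushout (g.appLE U U' hle) (A.str.app (op U)) (B.str.app (op U')) (φ U hU U' hU' hle)) :
    IsPullback h B.π A.π g := by
  let I := {Q : S.Opens × S'.Opens // IsAffineOpen Q.1 ∧ IsAffineOpen Q.2 ∧ Q.2 ≤ g ⁻¹ᵁ Q.1}
  have hcov : ∀ y : S', ∃ a : I, y ∈ a.2.2.1.fromSpec.opensRange := fun y => by
    obtain ⟨U, hU, hy, -⟩ :=
      exists_isAffineOpen_mem_and_subset (U := (⊤ : S.Opens)) (x := g y) trivial
    obtain ⟨U', hU', hy', hle⟩ :=
      exists_isAffineOpen_mem_and_subset (U := g ⁻¹ᵁ U) (x := y) hy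
    exact ⟨⟨(U, U'), hU, hU', hle⟩, by rw [hU'.opensRange_fromSpec]; exact hy'⟩
  have hcovB : ∀ x : B.spec, ∃ a : I, x ∈ (B.ι a.1.2 a.2.2.1).opensRange := fun x => by
    obtain ⟨a, ha⟩ := hcov (B.π x)
    rw [a.2.2.1.opensRange_fromSpec] at ha
    exact ⟨a, (B.π_preimage a.1.2 a.2.2.1).le ha⟩
  have w : h ≫ A.π = B.π ≫ g := by
    let 𝒰 : Scheme.OpenCover.{u} B.spec := Scheme.Cover.mkOfCovers I
      (fun a => Spec (B.presheaf.obj (op a.1.2))) (fun a => B.ι a.1.2 a.2.2.1) (fun x => by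
        obtain ⟨a, ha⟩ := hcovB x
        exact ⟨a, ha⟩)
    refine Scheme.Cover.hom_ext 𝒰 _ _ fun a => ?_
    obtain ⟨⟨U, U'⟩, hU, hU', hle⟩ := a
    change B.ι U' hU' ≫ h ≫ A.π = B.ι U' hU' ≫ B.π ≫ g
    rw [reassoc_of% (hh U hU U' hU' hle), A.ι_π, ← Category.assoc, ← Spec.map_comp,
      reassoc_of% (B.ι_π U' hU'),
      show A.str.app (op U) ≫ φ U hU U' hU' hle = g.appLE U U' hle ≫ B.str.app (op U') from
        (hpo U hU U' hU' hle).w.symm,
      Spec.map_comp, Category.assoc]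
    congr 1
    exact IsAffineOpen.SpecMap_appLE_fromSpec g hU hU' hle
  refine (EGA2.isPullback_of_charts B.π h g A.π w.symm (fun a : I => Spec Γ(S', a.1.2))
    (fun a => a.2.2.1.fromSpec) hcov (fun a => Spec (B.presheaf.obj (op a.1.2)))
    (fun a => Spec.map (B.str.app (op a.1.2))) (fun a => B.ι a.1.2 a.2.2.1)
    (fun a => (isPullback_ι_π B a.1.2 a.2.2.1).flip) fun a => ?_).flip
  obtain ⟨⟨U, U'⟩, hU, hU', hle⟩ := a
  have H1 : IsPullback (Spec.map (B.str.app (op U'))) (Spec.map (φ U hU U' hU' hle))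
      (Spec.map (g.appLE U U' hle)) (Spec.map (A.str.app (op U))) :=
    isPullback_SpecMap_of_isPushout _ _ _ _ (hpo U hU U' hU' hle)
  have H := H1.paste_vert (isPullback_ι_π A U hU).flip
  rw [IsAffineOpen.SpecMap_appLE_fromSpec g hU hU' hle, ← hh U hU U' hU' hle] at H
  exact H

end Groth.Agent.SymAlg11

namespace Groth.Agent.SymAlg11

/-- A square of relative spectra is cartesian if the rings over the affine opens form pushouts. -/
theorem isPullback_specMap_of_isPushout {S : Scheme.{u}} {AE AF A : RelSpec.QCAlg S}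
    (ψE : AE ⟶ A) (ψF : AF ⟶ A)
    (hpo : ∀ (U : S.Opens) (_ : IsAffineOpen U), IsPushout (AE.str.app (op U)) (AF.str.app (op U))
      (ψE.hom.app (op U)) (ψF.hom.app (op U))) :
    IsPullback (RelSpec.QCAlg.specMap ψE) (RelSpec.QCAlg.specMap ψF) AE.π AF.π := by
  refine EGA2.isPullback_of_charts _ _ _ _
    (by rw [RelSpec.QCAlg.specMap_π, RelSpec.QCAlg.specMap_π])
    (fun U : S.AffineZariskiSite => Spec (AE.presheaf.obj (op U.1))) (fun U => AE.ι U.1 U.2)
    (fun y => by
      obtain ⟨V, hV, hy, -⟩ :=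
        exists_isAffineOpen_mem_and_subset (U := (⊤ : S.Opens)) (x := AE.π y) trivial
      exact ⟨⟨V, hV⟩, (AE.π_preimage V hV).le hy⟩)
    (fun U => Spec (A.presheaf.obj (op U.1))) (fun U => Spec.map (ψE.hom.app (op U.1)))
    (fun U => A.ι U.1 U.2) (fun U => (isPullback_ι_specMap ψE U.1 U.2).flip) fun U => ?_
  have H := (isPullback_SpecMap_of_isPushout _ _ _ _ (hpo U.1 U.2)).paste_vert
    (isPullback_ι_π AF U.1 U.2).flip
  rw [RelSpec.QCAlg.ι_specMap U.1 U.2 ψF, AE.ι_π U.1 U.2]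
  exact H

end Groth.Agent.SymAlg11
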