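import Groth.Agent.Lib.RelSpecB.Basic

/-!
A quasi-coherent algebra from rings on the affine opens satisfying the localisation condition.
-/

universe u

open CategoryTheory CategoryTheory.Limits AlgebraicGeometry TopologicalSpace Opposite

set_option backward.isDefEq.respectTransparency false

noncomputable section

namespace Groth.Agent.SymAlg11

variable {S : Scheme.{u}} {F : S.AffineZariskiSiteᵒᵖ ⥤ CommRingCat.{u}}
  {α : (Scheme.AffineZariskiSite.toOpensFunctor S).op ⋙ S.presheaf ⟶ F} (H : α.Coequifibered)

/-- The glueing datum. -/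
abbrev affData : (Scheme.AffineZariskiSite.directedCover S).RelativeGluingData :=
  Scheme.AffineZariskiSite.relativeGluingData H

instance : ((affData H).functor ⋙ Scheme.forget).IsLocallyDirected :=
  Scheme.Cover.RelativeGluingData.instIsLocallyDirectedI₀CompFunctorForgetOfIsThin ..

/-- The glued scheme. -/
def affSpec : Scheme.{u} := (affData H).glued

/-- Its map to the base. -/
def affπ : affSpec H ⟶ S := (affData H).toBase

/-- The chart over an affine open. -/
def affι (U : S.AffineZariskiSite) : Spec (F.obj (op U)) ⟶ affSpec H :=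
  (affData H).cover.f U

instance (U : S.AffineZariskiSite) : IsOpenImmersion (affι H U) := (affData H).cover.map_prop _

lemma affι_π (U : S.AffineZariskiSite) :
    affι H U ≫ affπ H = Spec.map (α.app (op U)) ≫ U.2.fromSpec :=
  colimit.ι_desc _ _

lemma affπ_preimage (U : S.AffineZariskiSite) : affπ H ⁻¹ᵁ U.1 = (affι H U).opensRange := by
  simpa using! (affData H).toBase_preimage_eq_opensRange_ι U

lemma affι_res {U V : S.AffineZariskiSite} (i : V ⟶ U) :
    Spec.map (F.map i.op) ≫ affι H U = affι H V :=
  colimit.w (affData H).functor i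

lemma aff_top_le (U : S.AffineZariskiSite) :
    (⊤ : (Spec (F.obj (op U))).Opens) ≤ affι H U ⁻¹ᵁ (affπ H ⁻¹ᵁ U.1) := by
  rw [← Scheme.Hom.comp_preimage, affι_π, Scheme.Hom.comp_preimage, U.2.fromSpec_preimage_self]
  exact le_top

instance : IsAffineHom (affπ H) where
  isAffine_preimage U hU := by
    rw [affπ_preimage H ⟨U, hU⟩]
    exact isAffineOpen_opensRange (affι H ⟨U, hU⟩)

/-- The quasi-coherent algebra of the data. -/
def ofAffine : RelSpec.QCAlg S := RelSpec.QCAlg.directImage (affπ H)

/-- Sections over an affine open. -/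
def affApp (U : S.AffineZariskiSite) : (ofAffine H).presheaf.obj (op U.1) ⟶ F.obj (op U) :=
  (affι H U).appLE (affπ H ⁻¹ᵁ U.1) ⊤ (aff_top_le H U) ≫ (Scheme.ΓSpecIso (F.obj (op U))).hom

instance (U : S.AffineZariskiSite) : IsIso (affApp H U) := by
  unfold affApp
  haveI := RelSpecB.isIso_appLE_of_opensRange (affι H U) (affπ_preimage H U) (aff_top_le H U)
  infer_instance

/-- Sections over affine opens, naturally. -/
def affNat : (Scheme.AffineZariskiSite.toOpensFunctor S).op ⋙ (ofAffine H).presheaf ⟶ F where
  app U := affApp H U.unop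
  naturality U V i := by
    change (affSpec H).presheaf.map
          (homOfLE ((affπ H).preimage_mono (Scheme.AffineZariskiSite.toOpens_mono i.unop.le))).op ≫
        affApp H V.unop = affApp H U.unop ≫ F.map i.unop.op
    simp only [affApp, Category.assoc, ← Scheme.ΓSpecIso_naturality]
    simp only [← Category.assoc]
    congr 1
    simp only [Scheme.Hom.appTop, Scheme.Hom.appLE, Category.assoc]
    have h1 := (Scheme.Hom.comp_app (Spec.map (F.map i.unop.op)) (affι H U.unop)
      (affπ H ⁻¹ᵁ U.unop.1)).symm
    rw [Scheme.Hom.naturality_assoc, Scheme.Hom.naturality, reassoc_of% h1,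
      Scheme.Hom.congr_app (affι_res H i.unop), Category.assoc, ← Functor.map_comp, ← Functor.map_comp]
    rfl

instance : IsIso (affNat H) := by
  rw [NatTrans.isIso_iff_isIso_app]
  intro U
  change IsIso (affApp H U.unop)
  infer_instance

/-- Sections over affine opens, as an isomorphism. -/
def affIso : (Scheme.AffineZariskiSite.toOpensFunctor S).op ⋙ (ofAffine H).presheaf ≅ F :=
  asIso (affNat H)

lemma str_affApp (U : S.AffineZariskiSite) :
    (ofAffine H).str.app (op U.1) ≫ affApp H U = α.app (op U) := by
  change (affπ H).app U.1 ≫ affApp H U = _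
  have h1 := Scheme.Hom.congr_app (affι_π H U) U.1
  have h2 := (Scheme.Hom.comp_app (affι H U) (affπ H) U.1).symm
  have hk : ∀ k : (op ⊤ : (Spec (F.obj (op U))).Opensᵒᵖ) ⟶ op ⊤,
      (Spec (F.obj (op U))).presheaf.map k = 𝟙 _ := fun k => by
    rw [Subsingleton.elim k (𝟙 _)]; exact CategoryTheory.Functor.map_id _ _
  simp only [affApp, Scheme.Hom.appLE, Category.assoc]
  rw [reassoc_of% h2, h1, Scheme.Hom.comp_app, U.2.fromSpec_app_self]
  simp only [Category.assoc]
  rw [Scheme.Hom.naturality_assoc]
  simp only [← Functor.map_comp_assoc]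
  erw [hk, Category.id_comp]
  rw [← cancel_epi (Scheme.ΓSpecIso Γ(S, U.1)).hom, Iso.hom_inv_id_assoc]
  erw [Scheme.ΓSpecIso_naturality]
  rfl

lemma affIso_hom_app (U : S.AffineZariskiSite) : (affIso H).hom.app (op U) = affApp H U := rfl

lemma str_affIso : (Scheme.AffineZariskiSite.toOpensFunctor S).op.whiskerLeft (ofAffine H).str ≫
    (affIso H).hom = α := by
  ext U : 2
  exact str_affApp H U.unop

end Groth.Agent.SymAlg11
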