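import Mathlib

/-!
Functoriality of the symmetric algebra along semilinear maps, and its compatibility with base change.
-/

universe u

open CategoryTheory Limits

noncomputable section

namespace Groth.Agent.SymAlg11

section hom

variable {R : Type*} [CommRing R] {M : Type*} [AddCommGroup M] [Module R M]
  {T : Type*} [CommRing T]

/-- The ring map out of a symmetric algebra with prescribed values on scalars and on the module. -/
def symLift (a : R →+* T) (f : M →+ T) (hf : ∀ r m, f (r • m) = a r * f m) :
    SymmetricAlgebra R M →+* T :=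
  letI := a.toAlgebra
  (SymmetricAlgebra.lift { toFun := f, map_add' := f.map_add, map_smul' := hf }).toRingHom

@[simp]
lemma symLift_algebraMap (a : R →+* T) (f : M →+ T) (hf : ∀ r m, f (r • m) = a r * f m) (r : R) :
    symLift a f hf (algebraMap R _ r) = a r := by
  letI := a.toAlgebra
  exact AlgHom.commutes _ r

@[simp]
lemma symLift_ι (a : R →+* T) (f : M →+ T) (hf : ∀ r m, f (r • m) = a r * f m) (m : M) :
    symLift a f hf (SymmetricAlgebra.ι R M m) = f m := by
  letI := a.toAlgebra
  exact SymmetricAlgebra.lift_ι_apply (R := R) (A := T)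
    { toFun := f, map_add' := f.map_add, map_smul' := hf } m

/-- Ring maps out of a symmetric algebra agree if they agree on scalars and on the module. -/
lemma symHom_ext {F G : SymmetricAlgebra R M →+* T}
    (h₁ : ∀ r, F (algebraMap R _ r) = G (algebraMap R _ r))
    (h₂ : ∀ m, F (SymmetricAlgebra.ι R M m) = G (SymmetricAlgebra.ι R M m)) : F = G := by
  refine RingHom.ext fun a => ?_
  induction a using SymmetricAlgebra.induction with
  | algebraMap r => exact h₁ r
  | ι x => exact h₂ x
  | mul a b ha hb => rw [map_mul, map_mul, ha, hb]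
  | add a b ha hb => rw [map_add, map_add, ha, hb]

variable {R' : Type*} [CommRing R'] {M' : Type*} [AddCommGroup M'] [Module R' M']

/-- Functoriality of the symmetric algebra along a semilinear map. -/
def symMap (σ : R →+* R') (f : M →+ M') (hf : ∀ r m, f (r • m) = σ r • f m) :
    SymmetricAlgebra R M →+* SymmetricAlgebra R' M' :=
  symLift ((algebraMap R' (SymmetricAlgebra R' M')).comp σ)
    ((SymmetricAlgebra.ι R' M').toAddMonoidHom.comp f) fun r m => by
      change SymmetricAlgebra.ι R' M' (f (r • m)) = _
      rw [hf, map_smul, Algebra.smul_def]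
      rfl

@[simp]
lemma symMap_algebraMap (σ : R →+* R') (f : M →+ M') (hf : ∀ r m, f (r • m) = σ r • f m) (r : R) :
    symMap σ f hf (algebraMap R _ r) = algebraMap R' _ (σ r) :=
  symLift_algebraMap _ _ _ r

@[simp]
lemma symMap_ι (σ : R →+* R') (f : M →+ M') (hf : ∀ r m, f (r • m) = σ r • f m) (m : M) :
    symMap σ f hf (SymmetricAlgebra.ι R M m) = SymmetricAlgebra.ι R' M' (f m) :=
  symLift_ι _ _ _ m

end hom

/-- Symmetric algebras commute with base change: the square of rings is a pushout. -/
theorem isPushout_sym {R R' M M' : Type u} [CommRing R] [CommRing R'] [Algebra R R']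
    [AddCommGroup M] [Module R M] [AddCommGroup M'] [Module R' M'] [Module R M']
    [IsScalarTower R R' M'] (ρ : M →ₗ[R] M') (hρ : IsBaseChange R' ρ)
    (f : SymmetricAlgebra R M →+* SymmetricAlgebra R' M')
    (hf₁ : ∀ r, f (algebraMap R _ r) = algebraMap R' _ (algebraMap R R' r))
    (hf₂ : ∀ m, f (SymmetricAlgebra.ι R M m) = SymmetricAlgebra.ι R' M' (ρ m)) :
    IsPushout (CommRingCat.ofHom (algebraMap R R'))
      (CommRingCat.ofHom (algebraMap R (SymmetricAlgebra R M)))
      (CommRingCat.ofHom (algebraMap R' (SymmetricAlgebra R' M'))) (CommRingCat.ofHom f) := by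
  have w : CommRingCat.ofHom (algebraMap R R') ≫
        CommRingCat.ofHom (algebraMap R' (SymmetricAlgebra R' M')) =
      CommRingCat.ofHom (algebraMap R (SymmetricAlgebra R M)) ≫ CommRingCat.ofHom f :=
    CommRingCat.hom_ext (RingHom.ext fun r => (hf₁ r).symm)
  refine ⟨⟨w⟩, ⟨PushoutCocone.IsColimit.mk w (fun s => ?_) (fun s => ?_) (fun s => ?_)
    (fun s m hm₁ hm₂ => ?_)⟩⟩
  · letI := s.inl.hom.toAlgebra
    letI := (s.inl.hom.comp (algebraMap R R')).toAlgebra
    haveI : IsScalarTower R R' s.pt := .of_algebraMap_eq' rfl
    let g : M →ₗ[R] s.pt :=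
      { toFun := fun m => s.inr.hom (SymmetricAlgebra.ι R M m)
        map_add' := fun a b => by rw [map_add, map_add]
        map_smul' := fun r a => by
          rw [map_smul, Algebra.smul_def, map_mul, RingHom.id_apply, Algebra.smul_def]
          congr 1
          exact (ConcreteCategory.congr_hom s.condition r).symm }
    exact CommRingCat.ofHom (SymmetricAlgebra.lift (hρ.lift g)).toRingHom
  · letI := s.inl.hom.toAlgebra
    letI := (s.inl.hom.comp (algebraMap R R')).toAlgebra
    haveI : IsScalarTower R R' s.pt := .of_algebraMap_eq' rfl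
    exact CommRingCat.hom_ext (RingHom.ext fun r => AlgHom.commutes _ r)
  · letI := s.inl.hom.toAlgebra
    letI := (s.inl.hom.comp (algebraMap R R')).toAlgebra
    haveI : IsScalarTower R R' s.pt := .of_algebraMap_eq' rfl
    refine CommRingCat.hom_ext (symHom_ext (fun r => ?_) (fun m => ?_))
    · change SymmetricAlgebra.lift _ (f _) = _
      rw [hf₁, AlgHom.commutes]
      exact ConcreteCategory.congr_hom s.condition r
    · change SymmetricAlgebra.lift _ (f _) = _
      rw [hf₂, SymmetricAlgebra.lift_ι_apply, hρ.lift_eq]
      rfl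
  · letI := s.inl.hom.toAlgebra
    letI := (s.inl.hom.comp (algebraMap R R')).toAlgebra
    haveI : IsScalarTower R R' s.pt := .of_algebraMap_eq' rfl
    refine CommRingCat.hom_ext (symHom_ext (fun r => ?_) (fun x => ?_))
    · refine (ConcreteCategory.congr_hom hm₁ r).trans ?_
      exact (AlgHom.commutes _ r).symm
    · change m.hom _ = SymmetricAlgebra.lift _ _
      rw [SymmetricAlgebra.lift_ι_apply]
      induction x using hρ.inductionOn with
      | zero => simp
      | tmul y =>
        rw [hρ.lift_eq, ← hf₂]
        exact ConcreteCategory.congr_hom hm₂ _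
      | smul r y hy =>
        rw [LinearMap.map_smul, LinearMap.map_smul, Algebra.smul_def, Algebra.smul_def, map_mul, hy]
        congr 1
        exact ConcreteCategory.congr_hom hm₁ r
      | add a b ha hb => rw [map_add, map_add, map_add, ha, hb]

end Groth.Agent.SymAlg11
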