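import Groth.Agent.Lib.ModM1.QCAlgGen
import Groth.Agent.Lib.SymAlg11.Ring
import Groth.Agent.Lib.SymAlg11.OfAffine
import Mathlib.RingTheory.Localization.BaseChange

/-!
The symmetric algebra of a quasi-coherent module, as a quasi-coherent algebra.
-/

universe u

open CategoryTheory CategoryTheory.Limits AlgebraicGeometry TopologicalSpace Opposite

set_option backward.isDefEq.respectTransparency false

noncomputable section

namespace Groth.Agent.SymAlg11

open Scheme.AffineZariskiSite (toOpens toOpens_mono toOpensFunctor)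

variable {S : Scheme.{u}} (E : S.Modules)

/-- The symmetric algebra of the sections over an open. -/
abbrev SymOn (U : S.Opens) : Type u := SymmetricAlgebra Γ(S, U) Γ(E, U)

/-- Restriction of symmetric algebras of sections. -/
def symRes {U V : S.Opens} (h : V ≤ U) : SymOn E U →+* SymOn E V :=
  symMap (M1.ores h).hom (M1.mres E h).hom fun r m => M1.mres_smul E h r m

@[simp]
lemma symRes_algebraMap {U V : S.Opens} (h : V ≤ U) (r : Γ(S, U)) :
    symRes E h (algebraMap Γ(S, U) (SymOn E U) r) = algebraMap Γ(S, V) _ (M1.ores h r) :=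
  symMap_algebraMap _ _ _ r

@[simp]
lemma symRes_ι {U V : S.Opens} (h : V ≤ U) (m : Γ(E, U)) :
    symRes E h (SymmetricAlgebra.ι Γ(S, U) Γ(E, U) m) =
      SymmetricAlgebra.ι Γ(S, V) Γ(E, V) (M1.mres E h m) :=
  symMap_ι _ _ _ m

/-- The symmetric algebras over the affine opens. -/
def symAff : S.AffineZariskiSiteᵒᵖ ⥤ CommRingCat.{u} where
  obj U := CommRingCat.of (SymOn E U.unop.1)
  map i := CommRingCat.ofHom (symRes E (toOpens_mono i.unop.le))
  map_id U := CommRingCat.hom_ext (symHom_ext (fun r => by simp) (fun m => by simp))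
  map_comp i j := CommRingCat.hom_ext (symHom_ext
    (fun r => by simp [M1.ores_ores]) (fun m => by simp [M1.mres_mres]))

/-- The structure maps. -/
def symStr : (toOpensFunctor S).op ⋙ S.presheaf ⟶ symAff E where
  app U := CommRingCat.ofHom (algebraMap Γ(S, U.unop.1) (SymOn E U.unop.1))
  naturality U V i := CommRingCat.hom_ext (RingHom.ext fun r => (symRes_algebraMap E _ r).symm)

/-- Restriction to a basic open is a localisation of modules. -/
theorem isBaseChange_mres (hE : Coh.IsQCoh E) {U : S.Opens} (hU : IsAffineOpen U) (g : Γ(S, U)) :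
    letI : Algebra Γ(S, U) Γ(S, S.basicOpen g) := (M1.ores (S.basicOpen_le g)).hom.toAlgebra
    letI : Module Γ(S, U) Γ(E, S.basicOpen g) :=
      Module.compHom _ (M1.ores (S.basicOpen_le g)).hom
    haveI : IsScalarTower Γ(S, U) Γ(S, S.basicOpen g) Γ(E, S.basicOpen g) :=
      IsScalarTower.of_algebraMap_smul fun _ _ => rfl
    IsBaseChange Γ(S, S.basicOpen g)
      ({ toFun := M1.mres E (S.basicOpen_le g)
         map_add' := map_add _
         map_smul' := fun a m => M1.mres_smul E _ a m } : Γ(E, U) →ₗ[Γ(S, U)] Γ(E, S.basicOpen g)) := by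
  haveI := hE
  letI : Algebra Γ(S, U) Γ(S, S.basicOpen g) := (M1.ores (S.basicOpen_le g)).hom.toAlgebra
  haveI : IsLocalization.Away g Γ(S, S.basicOpen g) := hU.isLocalization_basicOpen g
  letI : Module Γ(S, U) Γ(E, S.basicOpen g) := Module.compHom _ (M1.ores (S.basicOpen_le g)).hom
  haveI : IsScalarTower Γ(S, U) Γ(S, S.basicOpen g) Γ(E, S.basicOpen g) :=
    IsScalarTower.of_algebraMap_smul fun _ _ => rfl
  let l : Γ(E, U) →ₗ[Γ(S, U)] Γ(E, S.basicOpen g) :=
    { toFun := M1.mres E (S.basicOpen_le g)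
      map_add' := map_add _
      map_smul' := fun a m => M1.mres_smul E _ a m }
  haveI : IsLocalizedModule (Submonoid.powers g) l := by
    have hu : IsUnit (M1.ores (S.basicOpen_le g) g) :=
      RingedSpace.isUnit_res_basicOpen S.toRingedSpace g
    constructor
    · rintro ⟨_, n, rfl⟩
      rw [Module.End.isUnit_iff]
      obtain ⟨u, hu'⟩ := hu.pow n
      refine Function.bijective_iff_has_inverse.mpr
        ⟨fun a => (↑u⁻¹ : Γ(S, S.basicOpen g)) • a, fun a => ?_, fun a => ?_⟩
      · change (↑u⁻¹ : Γ(S, S.basicOpen g)) • (M1.ores (S.basicOpen_le g) (g ^ n) • a) = a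
        rw [map_pow, ← hu', ← mul_smul, Units.inv_mul, one_smul]
      · change M1.ores (S.basicOpen_le g) (g ^ n) • ((↑u⁻¹ : Γ(S, S.basicOpen g)) • a) = a
        rw [map_pow, ← hu', ← mul_smul, Units.mul_inv, one_smul]
    · intro t
      obtain ⟨k, t₀, ht⟩ := M1.exists_pow_smul_eq_res_affine E hU g t
      refine ⟨⟨t₀, ⟨g ^ k, k, rfl⟩⟩, ?_⟩
      show M1.ores (S.basicOpen_le g) (g ^ k) • t = M1.mres E (S.basicOpen_le g) t₀
      rw [map_pow, ht]
    · intro a b hab
      obtain ⟨n, hn⟩ := M1.exists_pow_smul_eq_zero_affine E hU g (a - b)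
        ((map_sub _ a b).trans (sub_eq_zero.mpr hab))
      exact ⟨⟨g ^ n, n, rfl⟩, sub_eq_zero.mp ((smul_sub (g ^ n) a b).symm.trans hn)⟩
  exact IsLocalizedModule.isBaseChange (Submonoid.powers g) Γ(S, S.basicOpen g) l

variable {E}

theorem coequifibered_symStr (hE : Coh.IsQCoh E) : (symStr E).Coequifibered := by
  rintro ⟨V⟩ ⟨U⟩ ⟨f, hf⟩
  obtain rfl : V.basicOpen f = U := Subtype.ext hf
  letI : Algebra Γ(S, V.1) Γ(S, S.basicOpen f) := (M1.ores (S.basicOpen_le f)).hom.toAlgebra
  letI : Module Γ(S, V.1) Γ(E, S.basicOpen f) := Module.compHom _ (M1.ores (S.basicOpen_le f)).hom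
  haveI : IsScalarTower Γ(S, V.1) Γ(S, S.basicOpen f) Γ(E, S.basicOpen f) :=
    IsScalarTower.of_algebraMap_smul fun _ _ => rfl
  exact isPushout_sym _ (isBaseChange_mres E hE V.2 f) (symRes E (S.basicOpen_le f))
    (symRes_algebraMap E _) (symRes_ι E _)

variable (hE : Coh.IsQCoh E)

/-- The symmetric algebra. -/
def symQC : RelSpec.QCAlg S := ofAffine (coequifibered_symStr hE)

/-- Its sections over the affine opens. -/
def symIso : (toOpensFunctor S).op ⋙ (symQC hE).presheaf ≅ symAff E :=
  affIso (coequifibered_symStr hE)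

/-- Its sections over an affine open, as a ring isomorphism. -/
def symEquiv (U : S.Opens) (hU : IsAffineOpen U) :
    (symQC hE).presheaf.obj (op U) ≃+* SymOn E U :=
  ((symIso hE).app (op (⟨U, hU⟩ : S.AffineZariskiSite))).commRingCatIsoToRingEquiv

lemma symEquiv_str (U : S.Opens) (hU : IsAffineOpen U) (r : Γ(S, U)) :
    symEquiv hE U hU (((symQC hE).str.app (op U)).hom r) = algebraMap Γ(S, U) (SymOn E U) r :=
  ConcreteCategory.congr_hom
    (str_affApp (coequifibered_symStr hE) (⟨U, hU⟩ : S.AffineZariskiSite)) r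

lemma symEquiv_res {U V : S.AffineZariskiSite} (i : V ⟶ U)
    (a : (symQC hE).presheaf.obj (op U.1)) :
    symEquiv hE V.1 V.2 (((symQC hE).presheaf.map (homOfLE (toOpens_mono i.le)).op).hom a) =
      symRes E (toOpens_mono i.le) (symEquiv hE U.1 U.2 a) :=
  ConcreteCategory.congr_hom ((symIso hE).hom.naturality i.op) a

lemma symEquiv_symm_res {U V : S.AffineZariskiSite} (i : V ⟶ U) (b : SymOn E U.1) :
    ((symQC hE).presheaf.map (homOfLE (toOpens_mono i.le)).op).hom ((symEquiv hE U.1 U.2).symm b) =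
      (symEquiv hE V.1 V.2).symm (symRes E (toOpens_mono i.le) b) := by
  apply (symEquiv hE V.1 V.2).injective
  rw [symEquiv_res hE i, RingEquiv.apply_symm_apply, RingEquiv.apply_symm_apply]

/-- The generators, on affine opens. -/
def genAff : (toOpensFunctor S).op ⋙ E.presheaf ⟶ (toOpensFunctor S).op ⋙ (symQC hE).toAb where
  app U := AddCommGrpCat.ofHom ((symEquiv hE U.unop.1 U.unop.2).symm.toRingHom.toAddMonoidHom.comp
    (SymmetricAlgebra.ι Γ(S, U.unop.1) Γ(E, U.unop.1)).toAddMonoidHom)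
  naturality U V i := by
    refine AddCommGrpCat.hom_ext (AddMonoidHom.ext fun m => ?_)
    change (symEquiv hE V.unop.1 V.unop.2).symm
        (SymmetricAlgebra.ι _ _ (M1.mres E (toOpens_mono i.unop.le) m)) =
      ((symQC hE).presheaf.map (homOfLE (toOpens_mono i.unop.le)).op).hom
        ((symEquiv hE U.unop.1 U.unop.2).symm (SymmetricAlgebra.ι _ _ m))
    rw [symEquiv_symm_res hE i.unop, symRes_ι]

/-- The generators, as a map of abelian presheaves. -/
def genAb : E.presheaf ⟶ (symQC hE).toAb :=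
  Functor.IsCoverDense.restrictHomEquivHom (G := toOpensFunctor S)
    (K := Opens.grothendieckTopology S) (ℱ := E.presheaf)
    (ℱ' := (⟨(symQC hE).toAb, (symQC hE).isSheaf_toAb⟩ : TopCat.Sheaf AddCommGrpCat.{u} S.carrier))
    (genAff hE)

lemma genAb_app (U : S.Opens) (hU : IsAffineOpen U) (m : Γ(E, U)) :
    (genAb hE).app (op U) m = (symEquiv hE U hU).symm (SymmetricAlgebra.ι Γ(S, U) Γ(E, U) m) := by
  have h : (toOpensFunctor S).op.whiskerLeft (genAb hE) = genAff hE :=
    (Functor.IsCoverDense.restrictHomEquivHom (G := toOpensFunctor S)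
      (K := Opens.grothendieckTopology S) (ℱ := E.presheaf)
      (ℱ' := (⟨(symQC hE).toAb, (symQC hE).isSheaf_toAb⟩ :
        TopCat.Sheaf AddCommGrpCat.{u} S.carrier))).symm_apply_apply _
  exact ConcreteCategory.congr_hom (NatTrans.congr_app h (op (⟨U, hU⟩ : S.AffineZariskiSite))) m

lemma genAb_smul (U : S.Opens) (r : Γ(S, U)) (m : Γ(E, U)) :
    (genAb hE).app (op U) (r • m) =
      ((symQC hE).str.app (op U)).hom r * (genAb hE).app (op U) m := by
  let F : TopCat.Sheaf CommRingCat.{u} S.carrier := ⟨(symQC hE).presheaf, (symQC hE).isSheaf⟩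
  have hc : U ≤ ⨆ V : {V : S.affineOpens // V.1 ≤ U}, V.1.1 := fun x hx => by
    obtain ⟨_, ⟨V, hV, rfl⟩, hxV, hVU⟩ := S.isBasis_affineOpens.exists_subset_of_mem_open hx U.2
    exact TopologicalSpace.Opens.mem_iSup.mpr ⟨⟨⟨V, hV⟩, hVU⟩, hxV⟩
  refine F.eq_of_locally_eq' (fun V : {V : S.affineOpens // V.1 ≤ U} => V.1.1) U
    (fun V => homOfLE V.2) hc _ _ fun V => ?_
  have hn : ∀ x : Γ(E, U),
      ((symQC hE).presheaf.map (homOfLE V.2).op).hom ((genAb hE).app (op U) x) =
        (genAb hE).app (op V.1.1) (M1.mres E V.2 x) := fun x =>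
    (ConcreteCategory.congr_hom ((genAb hE).naturality (homOfLE V.2).op) x).symm
  have hs : ((symQC hE).presheaf.map (homOfLE V.2).op).hom (((symQC hE).str.app (op U)).hom r) =
      ((symQC hE).str.app (op V.1.1)).hom (M1.ores V.2 r) :=
    (ConcreteCategory.congr_hom ((symQC hE).str.naturality (homOfLE V.2).op) r).symm
  change ((symQC hE).presheaf.map (homOfLE V.2).op).hom _ =
    ((symQC hE).presheaf.map (homOfLE V.2).op).hom _
  rw [map_mul, hn, hn, hs, M1.mres_smul, genAb_app hE _ V.1.2, genAb_app hE _ V.1.2, map_smul,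
    Algebra.smul_def, map_mul, ← symEquiv_str hE _ V.1.2, RingEquiv.symm_apply_apply]

/-- The canonical map from the module to its symmetric algebra. -/
def symGen : E ⟶ (symQC hE).toModule :=
  ⟨letI := (symQC hE).moduleSect
   PresheafOfModules.homMk (genAb hE) fun U r m => genAb_smul hE U.unop r m⟩

lemma symGen_app (U : S.Opens) (hU : IsAffineOpen U) (m : Γ(E, U)) :
    (symGen hE).app U m = (symEquiv hE U hU).symm (SymmetricAlgebra.ι Γ(S, U) Γ(E, U) m) :=
  genAb_app hE U hU m

/-- Maps of quasi-coherent algebras agree if they agree on affine opens. -/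
lemma qcHom_ext {A B : RelSpec.QCAlg S} {F G : A.presheaf ⟶ B.presheaf}
    (h : ∀ U : S.Opens, IsAffineOpen U → F.app (op U) = G.app (op U)) : F = G :=
  (Functor.IsCoverDense.restrictHomEquivHom (G := toOpensFunctor S)
    (K := Opens.grothendieckTopology S) (ℱ := A.presheaf)
    (ℱ' := (⟨B.presheaf, B.isSheaf⟩ : TopCat.Sheaf CommRingCat.{u} S.carrier))).symm.injective
      (NatTrans.ext (funext fun U => h U.unop.1 U.unop.2))

/-- Module maps into a quasi-coherent algebra agree if they agree on affine opens. -/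
lemma modHom_ext {M : S.Modules} {B : RelSpec.QCAlg S} {f g : M ⟶ B.toModule}
    (h : ∀ U : S.Opens, IsAffineOpen U → ∀ m : Γ(M, U), f.app U m = g.app U m) : f = g := by
  have h' : f.mapPresheaf = g.mapPresheaf :=
    (Functor.IsCoverDense.restrictHomEquivHom (G := toOpensFunctor S)
      (K := Opens.grothendieckTopology S) (ℱ := M.presheaf)
      (ℱ' := (⟨B.toAb, B.isSheaf_toAb⟩ : TopCat.Sheaf AddCommGrpCat.{u} S.carrier))).symm.injective
        (NatTrans.ext (funext fun U => ConcreteCategory.hom_ext _ _ (h U.unop.1 U.unop.2)))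
  exact Scheme.Modules.hom_ext f g fun U => NatTrans.congr_app h' (op U)

/-- The ring map out of the symmetric algebra of sections given by a module map. -/
def liftOn (B : RelSpec.QCAlg S) (φ : E ⟶ B.toModule) (U : S.Opens) :
    SymOn E U →+* B.presheaf.obj (op U) :=
  symLift (B.str.app (op U)).hom (φ.app U).hom fun r m => φ.app_smul r m

@[simp]
lemma liftOn_algebraMap (B : RelSpec.QCAlg S) (φ : E ⟶ B.toModule) (U : S.Opens) (r : Γ(S, U)) :
    liftOn B φ U (algebraMap Γ(S, U) _ r) = (B.str.app (op U)).hom r :=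
  symLift_algebraMap _ _ _ r

@[simp]
lemma liftOn_ι (B : RelSpec.QCAlg S) (φ : E ⟶ B.toModule) (U : S.Opens) (m : Γ(E, U)) :
    liftOn B φ U (SymmetricAlgebra.ι Γ(S, U) Γ(E, U) m) = φ.app U m :=
  symLift_ι _ _ _ m

/-- The extension of a module map, on affine opens. -/
def liftAff (B : RelSpec.QCAlg S) (φ : E ⟶ B.toModule) :
    symAff E ⟶ (toOpensFunctor S).op ⋙ B.presheaf where
  app U := CommRingCat.ofHom (liftOn B φ U.unop.1)
  naturality U V i := by
    refine CommRingCat.hom_ext (symHom_ext (fun r => ?_) (fun m => ?_))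
    · change liftOn B φ V.unop.1 (symRes E (toOpens_mono i.unop.le)
          (algebraMap Γ(S, U.unop.1) (SymOn E U.unop.1) r)) =
        (B.presheaf.map (homOfLE (toOpens_mono i.unop.le)).op).hom
          (liftOn B φ U.unop.1 (algebraMap Γ(S, U.unop.1) (SymOn E U.unop.1) r))
      rw [symRes_algebraMap, liftOn_algebraMap, liftOn_algebraMap]
      exact ConcreteCategory.congr_hom (B.str.naturality (homOfLE (toOpens_mono i.unop.le)).op) r
    · change liftOn B φ V.unop.1 (symRes E (toOpens_mono i.unop.le)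
          (SymmetricAlgebra.ι Γ(S, U.unop.1) Γ(E, U.unop.1) m)) =
        (B.presheaf.map (homOfLE (toOpens_mono i.unop.le)).op).hom
          (liftOn B φ U.unop.1 (SymmetricAlgebra.ι Γ(S, U.unop.1) Γ(E, U.unop.1) m))
      rw [symRes_ι, liftOn_ι, liftOn_ι]
      exact M1.app_mres φ (toOpens_mono i.unop.le) m

/-- The extension of a module map, as a map of presheaves of rings. -/
def liftPre (B : RelSpec.QCAlg S) (φ : E ⟶ B.toModule) : (symQC hE).presheaf ⟶ B.presheaf :=
  Functor.IsCoverDense.restrictHomEquivHom (G := toOpensFunctor S)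
    (K := Opens.grothendieckTopology S) (ℱ := (symQC hE).presheaf)
    (ℱ' := (⟨B.presheaf, B.isSheaf⟩ : TopCat.Sheaf CommRingCat.{u} S.carrier))
    ((symIso hE).hom ≫ liftAff B φ)

lemma liftPre_app (B : RelSpec.QCAlg S) (φ : E ⟶ B.toModule) (U : S.Opens) (hU : IsAffineOpen U)
    (a : (symQC hE).presheaf.obj (op U)) :
    ((liftPre hE B φ).app (op U)).hom a = liftOn B φ U (symEquiv hE U hU a) := by
  have h : (toOpensFunctor S).op.whiskerLeft (liftPre hE B φ) = (symIso hE).hom ≫ liftAff B φ :=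
    (Functor.IsCoverDense.restrictHomEquivHom (G := toOpensFunctor S)
      (K := Opens.grothendieckTopology S) (ℱ := (symQC hE).presheaf)
      (ℱ' := (⟨B.presheaf, B.isSheaf⟩ :
        TopCat.Sheaf CommRingCat.{u} S.carrier))).symm_apply_apply _
  exact ConcreteCategory.congr_hom (NatTrans.congr_app h (op (⟨U, hU⟩ : S.AffineZariskiSite))) a

/-- The universal property. -/
theorem isSymAlg_symQC : RelSpec.IsSymAlg E (symQC hE) (symGen hE) := by
  intro B φ
  let ψ : symQC hE ⟶ B :=
    { hom := liftPre hE B φ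
      comm := qcHom_ext (A := RelSpec.QCAlg.unit S) fun U hU =>
        CommRingCat.hom_ext (RingHom.ext fun r => by
          change ((liftPre hE B φ).app (op U)).hom (((symQC hE).str.app (op U)).hom r) = _
          rw [liftPre_app hE B φ U hU, symEquiv_str, liftOn_algebraMap]
          rfl) }
  refine ⟨ψ, modHom_ext fun U hU m => ?_, fun χ hχ => ?_⟩
  · change ((liftPre hE B φ).app (op U)).hom ((symGen hE).app U m) = _
    rw [liftPre_app hE B φ U hU, symGen_app hE U hU, RingEquiv.apply_symm_apply, liftOn_ι]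
  · refine RelSpec.QCAlg.hom_ext (qcHom_ext fun U hU => CommRingCat.hom_ext ?_)
    have key : (χ.hom.app (op U)).hom.comp (symEquiv hE U hU).symm.toRingHom =
        liftOn B φ U := by
      refine symHom_ext (fun r => ?_) (fun m => ?_)
      · rw [RingHom.comp_apply, liftOn_algebraMap, ← symEquiv_str hE U hU]
        change (χ.hom.app (op U)).hom ((symEquiv hE U hU).symm (symEquiv hE U hU _)) = _
        rw [RingEquiv.symm_apply_apply]
        exact ConcreteCategory.congr_hom (NatTrans.congr_app χ.comm (op U)) r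
      · rw [RingHom.comp_apply, liftOn_ι, ← hχ]
        change (χ.hom.app (op U)).hom ((symEquiv hE U hU).symm _) =
          (χ.hom.app (op U)).hom ((symGen hE).app U m)
        rw [symGen_app hE U hU]
    refine RingHom.ext fun a => ?_
    change _ = ((liftPre hE B φ).app (op U)).hom a
    rw [liftPre_app hE B φ U hU, ← key, RingHom.comp_apply]
    exact congrArg _ ((symEquiv hE U hU).symm_apply_apply a).symm

/-- Two symmetric algebras of the same module are uniquely isomorphic. -/
theorem exists_iso_of_isSymAlg {A A' : RelSpec.QCAlg S} {j : E ⟶ A.toModule}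
    {j' : E ⟶ A'.toModule} (h : RelSpec.IsSymAlg E A j) (h' : RelSpec.IsSymAlg E A' j') :
    ∃ e : A ≅ A', j ≫ RelSpec.QCAlg.Hom.toModuleMap e.hom = j' := by
  obtain ⟨a, ha, -⟩ := h A' j'
  obtain ⟨b, hb, -⟩ := h' A j
  have comp : ∀ {A B C : RelSpec.QCAlg S} (f : A ⟶ B) (g : B ⟶ C),
      RelSpec.QCAlg.Hom.toModuleMap (f ≫ g) =
        RelSpec.QCAlg.Hom.toModuleMap f ≫ RelSpec.QCAlg.Hom.toModuleMap g :=
    fun f g => Scheme.Modules.hom_ext _ _ fun U => rfl
  have hid : ∀ A : RelSpec.QCAlg S, RelSpec.QCAlg.Hom.toModuleMap (𝟙 A) = 𝟙 _ :=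
    fun A => Scheme.Modules.hom_ext _ _ fun U => rfl
  refine ⟨⟨a, b, (h A j).unique ?_ ?_, (h' A' j').unique ?_ ?_⟩, ha⟩
  · rw [comp, reassoc_of% ha, hb]
  · rw [hid, Category.comp_id]
  · rw [comp, reassoc_of% hb, ha]
  · rw [hid, Category.comp_id]

/-- Sections over an affine open of a symmetric algebra. -/
theorem bijective_liftOn {A : RelSpec.QCAlg S} {j : E ⟶ A.toModule}
    (hE : Coh.IsQCoh E) (hA : RelSpec.IsSymAlg E A j) (U : S.Opens) (hU : IsAffineOpen U) :
    Function.Bijective (liftOn A j U) := by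
  obtain ⟨e, he⟩ := exists_iso_of_isSymAlg (isSymAlg_symQC hE) hA
  have key : liftOn A j U =
      (e.hom.hom.app (op U)).hom.comp (symEquiv hE U hU).symm.toRingHom := by
    refine symHom_ext (fun r => ?_) (fun m => ?_)
    · rw [RingHom.comp_apply, liftOn_algebraMap, ← symEquiv_str hE U hU]
      change _ = (e.hom.hom.app (op U)).hom ((symEquiv hE U hU).symm (symEquiv hE U hU _))
      rw [RingEquiv.symm_apply_apply]
      exact (ConcreteCategory.congr_hom (NatTrans.congr_app e.hom.comm (op U)) r).symm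
    · rw [RingHom.comp_apply, liftOn_ι, ← he]
      change (e.hom.hom.app (op U)).hom ((symGen hE).app U m) = _
      rw [symGen_app hE U hU]
      rfl
  let g : A.presheaf ⟶ (symQC hE).presheaf := e.inv.hom
  have h1 : e.hom.hom ≫ g = 𝟙 _ := congrArg RelSpec.QCAlg.Hom.hom e.hom_inv_id
  have h2 : g ≫ e.hom.hom = 𝟙 _ := congrArg RelSpec.QCAlg.Hom.hom e.inv_hom_id
  haveI : IsIso e.hom.hom := ⟨g, h1, h2⟩
  rw [key]
  exact (ConcreteCategory.bijective_of_isIso (e.hom.hom.app (op U))).comp
    (symEquiv hE U hU).symm.bijective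

end Groth.Agent.SymAlg11
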