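import Groth.Agent.Lib.SymAlg11.LineDom

/-!
Homogeneous sections of the symmetric algebra of an invertible module over an open: killing and
extending from the non-vanishing locus of another section.
-/

universe u

open CategoryTheory CategoryTheory.Limits AlgebraicGeometry TopologicalSpace Opposite
open scoped HomogeneousIdeal

set_option backward.isDefEq.respectTransparency false

noncomputable section

namespace Groth.Agent.SymAlg11

variable {X : Scheme.{u}} {L : X.Modules} {𝒮L : RelProj.QCGrAlg X} {j : L ⟶ 𝒮L.toModule}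
  (hLq : Coh.IsQCoh L) (hj : RelProj.IsGrSymAlg L 𝒮L j) (hL : PicF.IsInvertible L)

theorem IsHom.mul {U : X.Opens} {n m : ℕ} {c d : 𝒮L.presheaf.obj (op U)} (hc : IsHom 𝒮L U n c)
    (hd : IsHom 𝒮L U m d) : IsHom 𝒮L U (n + m) (c * d) := fun V hV h => by
  rw [map_mul]; exact SetLike.mul_mem_graded (hc V hV h) (hd V hV h)

theorem IsHom.pow {U : X.Opens} {n : ℕ} {c : 𝒮L.presheaf.obj (op U)} (hc : IsHom 𝒮L U n c) (k : ℕ) :
    IsHom 𝒮L U (k * n) (c ^ k) := fun V hV h => by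
  rw [map_pow]
  simpa using SetLike.pow_mem_graded k (hc V hV h)

theorem IsHom.sub {U : X.Opens} {n : ℕ} {c d : 𝒮L.presheaf.obj (op U)} (hc : IsHom 𝒮L U n c)
    (hd : IsHom 𝒮L U n d) : IsHom 𝒮L U n (c - d) := fun V hV h => by
  rw [map_sub]; exact sub_mem (hc V hV h) (hd V hV h)

theorem isHom_str {U : X.Opens} (t : Γ(X, U)) : IsHom 𝒮L U 0 ((𝒮L.str.app (op U)).hom t) := fun V hV h => by
  rw [gres_str]; exact 𝒮L.str_mem V hV _

theorem isHom_one {U : X.Opens} : IsHom 𝒮L U 0 (1 : 𝒮L.presheaf.obj (op U)) := fun V hV h => by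
  rw [map_one]; exact SetLike.one_mem_graded _

/-- Sections of the algebra agreeing locally agree. -/
theorem eq_of_locally {U : X.Opens} {c d : 𝒮L.presheaf.obj (op U)}
    (h : ∀ x ∈ U, ∃ (V : X.Opens) (hV : V ≤ U), x ∈ V ∧ gres 𝒮L hV c = gres 𝒮L hV d) : c = d := by
  refine M1.section_ext (M := 𝒮L.toModule) _ _ fun x hx => ?_
  obtain ⟨V, hV, hxV, he⟩ := h x hx
  rw [← TopCat.Presheaf.germ_res_apply 𝒮L.toModule.presheaf (homOfLE hV) x hxV,
    ← TopCat.Presheaf.germ_res_apply 𝒮L.toModule.presheaf (homOfLE hV) x hxV]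
  exact congrArg _ he

include hLq hj hL in
/-- A homogeneous section vanishing on a non-vanishing locus is killed by a power. -/
theorem exists_pow_kill {W : X.Opens} (hW : IsCompact (W : Set X)) {n m : ℕ}
    {c d : 𝒮L.presheaf.obj (op W)} (hc : IsHom 𝒮L W n c) (hd : IsHom 𝒮L W m d)
    (h : gres 𝒮L (nv_le W n c) d = 0) : ∃ k, c ^ k * d = 0 := by
  classical
  have hloc : ∀ x ∈ W, ∃ (V : X.Opens) (hV : V ≤ W) (k : ℕ), x ∈ V ∧ gres 𝒮L hV (c ^ k * d) = 0 := by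
    intro x hx
    obtain ⟨V, hV, hVW, e, a, hxV, -, he, ha⟩ := exists_local hLq hj hL hc ⊤ trivial hx
    obtain ⟨b, hb⟩ := exists_eq_of_mem hLq hj hV he (hd V hV hVW)
    have hle : X.basicOpen a ≤ nv 𝒮L W n c := fun y hy =>
      (mem_nv_iff hLq hj hV hVW he ha (X.basicOpen_le a hy)).2 hy
    have h0 := congrArg (gres 𝒮L hle) h
    rw [map_zero, gres_gres, ← gres_gres hVW (X.basicOpen_le a), hb, map_mul, map_pow, gres_tgen, gres_str]
      at h0
    have hb0 : M1.ores (X.basicOpen_le a) b = 0 :=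
      str_mul_pow_inj hLq hj (hV.basicOpen a) (isGenerator_mres he _) (n := m) (by rwa [map_zero, zero_mul])
    haveI := hV.isLocalization_basicOpen a
    obtain ⟨⟨_, k, rfl⟩, hk⟩ := (IsLocalization.map_eq_zero_iff (Submonoid.powers a) Γ(X, X.basicOpen a) b).1 hb0
    refine ⟨V, hVW, k, hxV, ?_⟩
    rw [map_mul, map_pow, ha, hb, mul_pow, ← map_pow, mul_mul_mul_comm, ← map_mul,
      show a ^ k * b = 0 from hk, map_zero, zero_mul]
  choose V hV k hxV hk using fun x : (W : Set X) => hloc x.1 x.2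
  obtain ⟨s, hs⟩ := hW.elim_finite_subcover (fun x => (V x : Set X)) (fun x => (V x).2)
    fun x hx => Set.mem_iUnion.2 ⟨⟨x, hx⟩, hxV _⟩
  refine ⟨s.sup k, eq_of_locally fun x hx => ?_⟩
  obtain ⟨y, hy, hxy⟩ := Set.mem_iUnion₂.1 (hs hx)
  refine ⟨V y, hV y, hxy, ?_⟩
  obtain ⟨l, hl⟩ := Nat.exists_eq_add_of_le (Finset.le_sup (f := k) hy)
  rw [hl, add_comm, pow_add, mul_assoc, map_mul, hk y, mul_zero, map_zero]

include hLq hj hL in
/-- A function on a non-vanishing locus is a homogeneous section divided by a power. -/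
theorem exists_pow_extend {W : X.Opens} (hW : IsCompact (W : Set X)) (hWq : IsQuasiSeparated (W : Set X))
    {n : ℕ} {c : 𝒮L.presheaf.obj (op W)} (hc : IsHom 𝒮L W n c) (t : Γ(X, nv 𝒮L W n c)) :
    ∃ (k : ℕ) (d : 𝒮L.presheaf.obj (op W)), IsHom 𝒮L W (k * n) d ∧
      gres 𝒮L (nv_le W n c) d = (𝒮L.str.app (op (nv 𝒮L W n c))).hom t * gres 𝒮L (nv_le W n c) c ^ k := by
  classical
  let N := nv 𝒮L W n c
  have hloc : ∀ x ∈ W, ∃ (V : X.Opens) (_ : IsAffineOpen V) (hV : V ≤ W) (k : ℕ) (d : 𝒮L.presheaf.obj (op V)),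
      x ∈ V ∧ IsHom 𝒮L V (k * n) d ∧ gres 𝒮L (inf_le_left : V ⊓ N ≤ V) d =
        (𝒮L.str.app (op (V ⊓ N))).hom (M1.ores inf_le_right t) *
          gres 𝒮L (inf_le_left.trans hV : V ⊓ N ≤ W) c ^ k := by
    intro x hx
    obtain ⟨V, hV, hVW, e, a, hxV, -, he, ha⟩ := exists_local hLq hj hL hc ⊤ trivial hx
    have hD : V ⊓ N = X.basicOpen a := le_antisymm
      (fun y (hy : y ∈ V ∧ y ∈ N) => (mem_nv_iff hLq hj hV hVW he ha hy.1).1 hy.2)
      (fun y hy => ⟨X.basicOpen_le a hy, (mem_nv_iff hLq hj hV hVW he ha (X.basicOpen_le a hy)).2 hy⟩)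
    haveI := hV.isLocalization_basicOpen a
    obtain ⟨⟨b, ⟨_, k, rfl⟩⟩, hb⟩ := IsLocalization.surj (Submonoid.powers a) (M1.ores hD.ge (M1.ores (inf_le_right : V ⊓ N ≤ N) t))
    refine ⟨V, hV, hVW, k, (𝒮L.str.app (op V)).hom b * tgen j V e ^ (k * n), hxV,
      isHom_of_mem hV (str_mul_pow_mem hj hV e b _), ?_⟩
    have hb' : M1.ores (inf_le_left : V ⊓ N ≤ V) b =
        M1.ores (inf_le_right : V ⊓ N ≤ N) t * M1.ores (inf_le_left : V ⊓ N ≤ V) a ^ k := by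
      have h1 := congrArg (M1.ores hD.le) hb
      simp only [map_mul, map_pow] at h1
      erw [M1.ores_ores, M1.ores_id, M1.ores_ores, M1.ores_ores] at h1
      exact h1.symm
    rw [← gres_gres hVW inf_le_left, ha, map_mul, map_mul, map_pow, map_pow, gres_str, gres_str, gres_tgen,
      hb', map_mul, map_pow, mul_pow, ← pow_mul, mul_comm n k, mul_assoc]
  choose V hVa hV k d hxV hd hk using fun x : (W : Set X) => hloc x.1 x.2
  obtain ⟨s, hs⟩ := hW.elim_finite_subcover (fun x => (V x : Set X)) (fun x => (V x).2)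
    fun x hx => Set.mem_iUnion.2 ⟨⟨x, hx⟩, hxV _⟩
  let K := s.sup k
  let D : ∀ x : s, 𝒮L.presheaf.obj (op (V x.1)) := fun x => gres 𝒮L (hV x.1) c ^ (K - k x.1) * d x.1
  have hkK : ∀ x : s, k x.1 ≤ K := fun x => Finset.le_sup x.2
  have hD : ∀ x : s, IsHom 𝒮L (V x.1) (K * n) (D x) := fun x => by
    have := ((hc.res (hV x.1)).pow (K - k x.1)).mul (hd x.1)
    rwa [← add_mul, Nat.sub_add_cancel (hkK x)] at this
  have hDN : ∀ x : s, gres 𝒮L (inf_le_left : V x.1 ⊓ N ≤ V x.1) (D x) =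
      (𝒮L.str.app (op (V x.1 ⊓ N))).hom (M1.ores inf_le_right t) *
        gres 𝒮L (inf_le_left.trans (hV x.1) : V x.1 ⊓ N ≤ W) c ^ K := fun x => by
    simp only [D, map_mul, map_pow, gres_gres, hk x.1]
    rw [mul_left_comm, ← pow_add, Nat.sub_add_cancel (hkK x)]
  have hov : ∀ x y : s, ∃ l : ℕ, gres 𝒮L (inf_le_left.trans (hV x.1) : V x.1 ⊓ V y.1 ≤ W) c ^ l *
      (gres 𝒮L (inf_le_left : V x.1 ⊓ V y.1 ≤ V x.1) (D x) -
        gres 𝒮L (inf_le_right : V x.1 ⊓ V y.1 ≤ V y.1) (D y)) = 0 := by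
    intro x y
    have hO : V x.1 ⊓ V y.1 ≤ W := inf_le_left.trans (hV x.1)
    refine exists_pow_kill hLq hj hL
      (hWq _ _ (hV x.1) (V x.1).2 (hVa x.1).isCompact (hV y.1) (V y.1).2 (hVa y.1).isCompact)
      (hc.res hO) (((hD x).res inf_le_left).sub ((hD y).res inf_le_right)) ?_
    let O := nv 𝒮L (V x.1 ⊓ V y.1) n (gres 𝒮L hO c)
    have hON : O ≤ N := fun z hz => (mem_nv_res hLq hj hL hc hO (nv_le _ _ _ hz)).1 hz
    have hx' : O ≤ V x.1 ⊓ N := le_inf ((nv_le _ _ _).trans inf_le_left) hON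
    have hy' : O ≤ V y.1 ⊓ N := le_inf ((nv_le _ _ _).trans inf_le_right) hON
    show gres 𝒮L _ _ = 0
    rw [map_sub, gres_gres, gres_gres, ← gres_gres (inf_le_left : V x.1 ⊓ N ≤ V x.1) hx',
      ← gres_gres (inf_le_left : V y.1 ⊓ N ≤ V y.1) hy', hDN, hDN, map_mul, map_mul, map_pow, map_pow,
      gres_gres, gres_gres, gres_str, gres_str, M1.ores_ores, M1.ores_ores, sub_self]
  choose l hl using hov
  let M := Finset.univ.sup fun p : s × s => l p.1 p.2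
  let E : ∀ x : s, 𝒮L.presheaf.obj (op (V x.1)) := fun x => gres 𝒮L (hV x.1) c ^ M * D x
  have hcov : W ≤ ⨆ x : s, V x.1 := fun y hy => by
    obtain ⟨z, hz, hyz⟩ := Set.mem_iUnion₂.1 (hs hy)
    exact Opens.mem_iSup.2 ⟨⟨z, hz⟩, hyz⟩
  obtain ⟨e, he, -⟩ := TopCat.Sheaf.existsUnique_gluing' ⟨_, 𝒮L.toModule.isSheaf⟩ (fun x : s => V x.1) W
    (fun x => homOfLE (hV x.1)) hcov (fun x => E x) fun x y => by
      obtain ⟨i, hi⟩ := Nat.exists_eq_add_of_le (Finset.le_sup (f := fun p : s × s => l p.1 p.2) (Finset.mem_univ (x, y)))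
      show gres 𝒮L (inf_le_left : V x.1 ⊓ V y.1 ≤ V x.1) (E x) = gres 𝒮L (inf_le_right : V x.1 ⊓ V y.1 ≤ V y.1) (E y)
      refine sub_eq_zero.1 ?_
      simp only [E, map_mul, map_pow, gres_gres]
      rw [← mul_sub, show M = l x y + i from hi, add_comm, pow_add, mul_assoc, hl x y, mul_zero]
  have he' : ∀ x : s, gres 𝒮L (hV x.1) e = E x := he
  refine ⟨M + K, e, fun V' hV' hle => ?_, ?_⟩
  · classical
    suffices h : (DirectSum.decompose (𝒮L.deg V' hV') (gres 𝒮L hle e) ((M + K) * n)).1 = gres 𝒮L hle e from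
      h ▸ SetLike.coe_mem _
    refine eq_of_locally fun z hz => ?_
    obtain ⟨x, hzx⟩ := Opens.mem_iSup.1 (hcov (hle hz))
    obtain ⟨V'', hV'', hzV'', hV''le⟩ := exists_isAffineOpen_mem_and_subset (show z ∈ V' ⊓ V x.1 from ⟨hz, hzx⟩)
    refine ⟨V'', hV''le.trans inf_le_left, hzV'', ?_⟩
    show 𝒮L.res hV' hV'' _ (DirectSum.decompose (𝒮L.deg V' hV') (gres 𝒮L hle e) ((M + K) * n)).1 = _
    rw [GradedRingHom.map_directSumDecompose (𝒜 := 𝒮L.deg V' hV') (ℬ := 𝒮L.deg V'' hV'')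
      (𝒮L.res hV' hV'' (hV''le.trans inf_le_left)) (x := gres 𝒮L hle e) (i := (M + K) * n)]
    refine DirectSum.decompose_of_mem_same (𝒮L.deg V'' hV'') ?_
    show gres 𝒮L _ (gres 𝒮L hle e) ∈ _
    rw [gres_gres, ← gres_gres (hV x.1) (hV''le.trans inf_le_right), he']
    have := ((hc.res (hV x.1)).pow M).mul (hD x)
    rw [← add_mul] at this
    exact this V'' hV'' _
  · refine eq_of_locally fun z hz => ?_
    obtain ⟨x, hzx⟩ := Opens.mem_iSup.1 (hcov (nv_le _ _ _ hz))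
    refine ⟨V x.1 ⊓ N, inf_le_right, ⟨hzx, hz⟩, ?_⟩
    rw [map_mul, map_pow, gres_gres, gres_gres, gres_str,
      ← gres_gres (hV x.1) (inf_le_left : V x.1 ⊓ N ≤ V x.1), he']
    simp only [E, map_mul, map_pow, gres_gres, hDN x]
    rw [mul_left_comm, pow_add]

include hLq hj hL in
/-- A homogeneous section on a non-vanishing locus is a homogeneous section divided by a power. -/
theorem exists_pow_extend_isHom {W : X.Opens} (hW : IsCompact (W : Set X)) (hWq : IsQuasiSeparated (W : Set X))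
    {n : ℕ} {c : 𝒮L.presheaf.obj (op W)} (hc : IsHom 𝒮L W n c) {m : ℕ} {τ : 𝒮L.presheaf.obj (op (nv 𝒮L W n c))}
    (hτ : IsHom 𝒮L (nv 𝒮L W n c) m τ) :
    ∃ (k : ℕ) (d : 𝒮L.presheaf.obj (op W)), IsHom 𝒮L W (m + k * n) d ∧
      gres 𝒮L (nv_le W n c) d = τ * gres 𝒮L (nv_le W n c) c ^ k := by
  classical
  let N := nv 𝒮L W n c
  have hloc : ∀ x ∈ W, ∃ (V : X.Opens) (_ : IsAffineOpen V) (hV : V ≤ W) (k : ℕ) (d : 𝒮L.presheaf.obj (op V)),
      x ∈ V ∧ IsHom 𝒮L V (m + k * n) d ∧ gres 𝒮L (inf_le_left : V ⊓ N ≤ V) d =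
        gres 𝒮L (inf_le_right : V ⊓ N ≤ N) τ *
          gres 𝒮L (inf_le_left.trans hV : V ⊓ N ≤ W) c ^ k := by
    intro x hx
    obtain ⟨V, hV, hVW, e, a, hxV, -, he, ha⟩ := exists_local hLq hj hL hc ⊤ trivial hx
    have hD : V ⊓ N = X.basicOpen a := le_antisymm
      (fun y (hy : y ∈ V ∧ y ∈ N) => (mem_nv_iff hLq hj hV hVW he ha hy.1).1 hy.2)
      (fun y hy => ⟨X.basicOpen_le a hy, (mem_nv_iff hLq hj hV hVW he ha (X.basicOpen_le a hy)).2 hy⟩)
    have hDa : IsAffineOpen (V ⊓ N) := hD ▸ hV.basicOpen a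
    have hgV : M2.IsGenerator (M1.mres L (inf_le_left : V ⊓ N ≤ V) e) := isGenerator_mres he _
    obtain ⟨β, hβ⟩ := exists_eq_of_mem hLq hj hDa hgV (hτ (V ⊓ N) hDa inf_le_right)
    haveI := hV.isLocalization_basicOpen a
    obtain ⟨⟨b, ⟨_, k, rfl⟩⟩, hb⟩ := IsLocalization.surj (Submonoid.powers a) (M1.ores hD.ge β)
    refine ⟨V, hV, hVW, k, (𝒮L.str.app (op V)).hom b * tgen j V e ^ (m + k * n), hxV,
      isHom_of_mem hV (str_mul_pow_mem hj hV e b _), ?_⟩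
    have hb' : M1.ores (inf_le_left : V ⊓ N ≤ V) b = β * M1.ores (inf_le_left : V ⊓ N ≤ V) a ^ k := by
      have h1 := congrArg (M1.ores hD.le) hb
      simp only [map_mul, map_pow] at h1
      erw [M1.ores_ores, M1.ores_id, M1.ores_ores, M1.ores_ores] at h1
      exact h1.symm
    rw [← gres_gres hVW inf_le_left, ha, hβ, map_mul, map_mul, map_pow, map_pow, gres_str, gres_str, gres_tgen,
      hb', map_mul, map_pow, mul_pow, ← pow_mul, pow_add, mul_comm k n, mul_mul_mul_comm]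
  choose V hVa hV k d hxV hd hk using fun x : (W : Set X) => hloc x.1 x.2
  obtain ⟨s, hs⟩ := hW.elim_finite_subcover (fun x => (V x : Set X)) (fun x => (V x).2)
    fun x hx => Set.mem_iUnion.2 ⟨⟨x, hx⟩, hxV _⟩
  let K := s.sup k
  let D : ∀ x : s, 𝒮L.presheaf.obj (op (V x.1)) := fun x => gres 𝒮L (hV x.1) c ^ (K - k x.1) * d x.1
  have hkK : ∀ x : s, k x.1 ≤ K := fun x => Finset.le_sup x.2
  have hD : ∀ x : s, IsHom 𝒮L (V x.1) (m + K * n) (D x) := fun x => by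
    have := ((hc.res (hV x.1)).pow (K - k x.1)).mul (hd x.1)
    rwa [add_left_comm, ← add_mul, Nat.sub_add_cancel (hkK x)] at this
  have hDN : ∀ x : s, gres 𝒮L (inf_le_left : V x.1 ⊓ N ≤ V x.1) (D x) =
      gres 𝒮L (inf_le_right : V x.1 ⊓ N ≤ N) τ *
        gres 𝒮L (inf_le_left.trans (hV x.1) : V x.1 ⊓ N ≤ W) c ^ K := fun x => by
    simp only [D, map_mul, map_pow, gres_gres, hk x.1]
    rw [mul_left_comm, ← pow_add, Nat.sub_add_cancel (hkK x)]
  have hov : ∀ x y : s, ∃ l : ℕ, gres 𝒮L (inf_le_left.trans (hV x.1) : V x.1 ⊓ V y.1 ≤ W) c ^ l *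
      (gres 𝒮L (inf_le_left : V x.1 ⊓ V y.1 ≤ V x.1) (D x) -
        gres 𝒮L (inf_le_right : V x.1 ⊓ V y.1 ≤ V y.1) (D y)) = 0 := by
    intro x y
    have hO : V x.1 ⊓ V y.1 ≤ W := inf_le_left.trans (hV x.1)
    refine exists_pow_kill hLq hj hL
      (hWq _ _ (hV x.1) (V x.1).2 (hVa x.1).isCompact (hV y.1) (V y.1).2 (hVa y.1).isCompact)
      (hc.res hO) (((hD x).res inf_le_left).sub ((hD y).res inf_le_right)) ?_
    let O := nv 𝒮L (V x.1 ⊓ V y.1) n (gres 𝒮L hO c)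
    have hON : O ≤ N := fun z hz => (mem_nv_res hLq hj hL hc hO (nv_le _ _ _ hz)).1 hz
    have hx' : O ≤ V x.1 ⊓ N := le_inf ((nv_le _ _ _).trans inf_le_left) hON
    have hy' : O ≤ V y.1 ⊓ N := le_inf ((nv_le _ _ _).trans inf_le_right) hON
    show gres 𝒮L _ _ = 0
    rw [map_sub, gres_gres, gres_gres, ← gres_gres (inf_le_left : V x.1 ⊓ N ≤ V x.1) hx',
      ← gres_gres (inf_le_left : V y.1 ⊓ N ≤ V y.1) hy', hDN, hDN, map_mul, map_mul, map_pow, map_pow,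
      gres_gres, gres_gres, gres_gres, gres_gres, sub_self]
  choose l hl using hov
  let M := Finset.univ.sup fun p : s × s => l p.1 p.2
  let E : ∀ x : s, 𝒮L.presheaf.obj (op (V x.1)) := fun x => gres 𝒮L (hV x.1) c ^ M * D x
  have hcov : W ≤ ⨆ x : s, V x.1 := fun y hy => by
    obtain ⟨z, hz, hyz⟩ := Set.mem_iUnion₂.1 (hs hy)
    exact Opens.mem_iSup.2 ⟨⟨z, hz⟩, hyz⟩
  obtain ⟨e, he, -⟩ := TopCat.Sheaf.existsUnique_gluing' ⟨_, 𝒮L.toModule.isSheaf⟩ (fun x : s => V x.1) W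
    (fun x => homOfLE (hV x.1)) hcov (fun x => E x) fun x y => by
      obtain ⟨i, hi⟩ := Nat.exists_eq_add_of_le (Finset.le_sup (f := fun p : s × s => l p.1 p.2) (Finset.mem_univ (x, y)))
      show gres 𝒮L (inf_le_left : V x.1 ⊓ V y.1 ≤ V x.1) (E x) = gres 𝒮L (inf_le_right : V x.1 ⊓ V y.1 ≤ V y.1) (E y)
      refine sub_eq_zero.1 ?_
      simp only [E, map_mul, map_pow, gres_gres]
      rw [← mul_sub, show M = l x y + i from hi, add_comm, pow_add, mul_assoc, hl x y, mul_zero]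
  have he' : ∀ x : s, gres 𝒮L (hV x.1) e = E x := he
  refine ⟨M + K, e, fun V' hV' hle => ?_, ?_⟩
  · classical
    suffices h : (DirectSum.decompose (𝒮L.deg V' hV') (gres 𝒮L hle e) (m + (M + K) * n)).1 = gres 𝒮L hle e from
      h ▸ SetLike.coe_mem _
    refine eq_of_locally fun z hz => ?_
    obtain ⟨x, hzx⟩ := Opens.mem_iSup.1 (hcov (hle hz))
    obtain ⟨V'', hV'', hzV'', hV''le⟩ := exists_isAffineOpen_mem_and_subset (show z ∈ V' ⊓ V x.1 from ⟨hz, hzx⟩)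
    refine ⟨V'', hV''le.trans inf_le_left, hzV'', ?_⟩
    show 𝒮L.res hV' hV'' _ (DirectSum.decompose (𝒮L.deg V' hV') (gres 𝒮L hle e) (m + (M + K) * n)).1 = _
    rw [GradedRingHom.map_directSumDecompose (𝒜 := 𝒮L.deg V' hV') (ℬ := 𝒮L.deg V'' hV'')
      (𝒮L.res hV' hV'' (hV''le.trans inf_le_left)) (x := gres 𝒮L hle e) (i := m + (M + K) * n)]
    refine DirectSum.decompose_of_mem_same (𝒮L.deg V'' hV'') ?_
    show gres 𝒮L _ (gres 𝒮L hle e) ∈ _
    rw [gres_gres, ← gres_gres (hV x.1) (hV''le.trans inf_le_right), he']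
    have := ((hc.res (hV x.1)).pow M).mul (hD x)
    rw [add_left_comm, ← add_mul] at this
    exact this V'' hV'' _
  · refine eq_of_locally fun z hz => ?_
    obtain ⟨x, hzx⟩ := Opens.mem_iSup.1 (hcov (nv_le _ _ _ hz))
    refine ⟨V x.1 ⊓ N, inf_le_right, ⟨hzx, hz⟩, ?_⟩
    rw [map_mul, map_pow, gres_gres, gres_gres,
      ← gres_gres (hV x.1) (inf_le_left : V x.1 ⊓ N ≤ V x.1), he']
    simp only [E, map_mul, map_pow, gres_gres, hDN x]
    rw [mul_left_comm, pow_add]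

end Groth.Agent.SymAlg11
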