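import Groth.Agent.Lib.Ample18.Gen
import Groth.Agent.Lib.SymAlg11.Sheaf
import Groth.Agent.Lib.RelProj11.QMap
import Groth.Prelude.Def_RelProj2

/-!
The graded symmetric algebra of an invertible module and its relative homogeneous spectrum.
-/

universe u

open CategoryTheory CategoryTheory.Limits AlgebraicGeometry TopologicalSpace Opposite HomogeneousLocalization
open scoped HomogeneousIdeal

set_option backward.isDefEq.respectTransparency false

noncomputable section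

namespace Groth.Agent.SymAlg11

section free

variable {R M : Type u} [CommRing R] [AddCommGroup M] [Module R M]

/-- The symmetric algebra of a free module of rank one is the polynomial ring. -/
theorem bijective_poly_sym (e : M) (he : Function.Bijective fun r : R => r • e) :
    Function.Bijective (Polynomial.eval₂RingHom (algebraMap R (SymmetricAlgebra R M))
      (SymmetricAlgebra.ι R M e)) := by
  let φ : R ≃ₗ[R] M := LinearEquiv.ofBijective (LinearMap.toSpanSingleton R M e) he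
  let g : SymmetricAlgebra R M →+* Polynomial R :=
    symLift Polynomial.C
      { toFun := fun m => Polynomial.C (φ.symm m) * Polynomial.X
        map_zero' := by rw [map_zero, map_zero, zero_mul]
        map_add' := fun a b => by rw [map_add, map_add, add_mul] }
      fun r m => by
        change Polynomial.C (φ.symm (r • m)) * Polynomial.X = _
        rw [map_smul, smul_eq_mul, map_mul, mul_assoc]
        rfl
  have h1 : g.comp (Polynomial.eval₂RingHom (algebraMap R (SymmetricAlgebra R M))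
      (SymmetricAlgebra.ι R M e)) = RingHom.id _ := by
    refine Polynomial.ringHom_ext (fun a => ?_) ?_
    · rw [RingHom.comp_apply, Polynomial.coe_eval₂RingHom, Polynomial.eval₂_C]
      exact symLift_algebraMap _ _ _ a
    · rw [RingHom.comp_apply, Polynomial.coe_eval₂RingHom, Polynomial.eval₂_X]
      refine (symLift_ι _ _ _ e).trans ?_
      change Polynomial.C (φ.symm e) * Polynomial.X = Polynomial.X
      rw [show φ.symm e = 1 from φ.symm_apply_eq.2 (one_smul R e).symm, map_one, one_mul]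
  have h2 : (Polynomial.eval₂RingHom (algebraMap R (SymmetricAlgebra R M))
      (SymmetricAlgebra.ι R M e)).comp g = RingHom.id _ := by
    refine symHom_ext (fun r => ?_) (fun m => ?_)
    · rw [RingHom.comp_apply, symLift_algebraMap, Polynomial.coe_eval₂RingHom, Polynomial.eval₂_C]
      rfl
    · rw [RingHom.comp_apply, symLift_ι]
      change Polynomial.eval₂RingHom _ _ (Polynomial.C (φ.symm m) * Polynomial.X) = _
      rw [map_mul, Polynomial.coe_eval₂RingHom, Polynomial.eval₂_C, Polynomial.eval₂_X,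
        ← Algebra.smul_def, ← map_smul]
      exact congrArg _ (φ.apply_symm_apply m)
  exact Function.bijective_iff_has_inverse.2
    ⟨g, RingHom.congr_fun h1, RingHom.congr_fun h2⟩

end free

variable {X PL : Scheme.{u}} {L : X.Modules} {𝒮L : RelProj.QCGrAlg X} {j : L ⟶ 𝒮L.toModule}

/-- Restriction in the graded algebra. -/
abbrev gres (𝒮L : RelProj.QCGrAlg X) {U V : X.Opens} (h : V ≤ U) :
    𝒮L.presheaf.obj (op U) →+* 𝒮L.presheaf.obj (op V) :=
  (𝒮L.presheaf.map (homOfLE h).op).hom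

lemma gres_gres {U V W : X.Opens} (h : V ≤ U) (h' : W ≤ V) (x : 𝒮L.presheaf.obj (op U)) :
    gres 𝒮L h' (gres 𝒮L h x) = gres 𝒮L (h'.trans h) x :=
  (ConcreteCategory.congr_hom (𝒮L.presheaf.map_comp (homOfLE h).op (homOfLE h').op) x).symm

lemma gres_self {U : X.Opens} (h : U ≤ U) (x : 𝒮L.presheaf.obj (op U)) : gres 𝒮L h x = x :=
  ConcreteCategory.congr_hom (𝒮L.presheaf.map_id (op U)) x

lemma gres_str {U V : X.Opens} (h : V ≤ U) (a : Γ(X, U)) :
    gres 𝒮L h ((𝒮L.str.app (op U)).hom a) = (𝒮L.str.app (op V)).hom (M1.ores h a) :=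
  (ConcreteCategory.congr_hom (𝒮L.str.naturality (homOfLE h).op) a).symm

variable (j) in
/-- The element of degree one given by a section. -/
abbrev tgen (U : X.Opens) (e : Γ(L, U)) : 𝒮L.presheaf.obj (op U) := j.app U e

lemma gres_tgen {U V : X.Opens} (h : V ≤ U) (e : Γ(L, U)) :
    gres 𝒮L h (tgen j U e) = tgen j V (M1.mres L h e) := (M1.app_mres j h e).symm

variable (hLq : Coh.IsQCoh L) (hj : RelProj.IsGrSymAlg L 𝒮L j)
  {U : X.Opens} (hU : IsAffineOpen U) {e : Γ(L, U)} (he : M2.IsGenerator e)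

include hLq hj hU he in
theorem bijective_poly :
    Function.Bijective (Polynomial.eval₂RingHom (𝒮L.str.app (op U)).hom (tgen j U e)) := by
  have h0 : Function.Bijective fun r : Γ(X, U) => r • e := by
    have := he U le_rfl
    simp only [Amp.res_self] at this
    exact this
  have key : Polynomial.eval₂RingHom (𝒮L.str.app (op U)).hom (tgen j U e) =
      (liftOn 𝒮L.toQCAlg j U).comp (Polynomial.eval₂RingHom (algebraMap Γ(X, U) _)
        (SymmetricAlgebra.ι Γ(X, U) Γ(L, U) e)) := by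
    refine Polynomial.ringHom_ext (fun a => ?_) ?_
    · simp only [RingHom.comp_apply, Polynomial.coe_eval₂RingHom, Polynomial.eval₂_C,
        liftOn_algebraMap]
    · simp only [RingHom.comp_apply, Polynomial.coe_eval₂RingHom, Polynomial.eval₂_X, liftOn_ι]
  rw [key]
  exact (bijective_liftOn hLq hj.1 U hU).comp (bijective_poly_sym e h0)

include hj in
lemma tgen_mem (e : Γ(L, U)) : tgen j U e ∈ 𝒮L.deg U hU 1 := hj.2 U hU e

include hj in
lemma str_mul_pow_mem (e : Γ(L, U)) (a : Γ(X, U)) (n : ℕ) :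
    (𝒮L.str.app (op U)).hom a * tgen j U e ^ n ∈ 𝒮L.deg U hU n := by
  have := SetLike.mul_mem_graded (A := 𝒮L.deg U hU) (𝒮L.str_mem U hU a)
    (SetLike.pow_mem_graded n (tgen_mem hj hU e))
  simpa using this

include hLq hj hU he in
theorem str_mul_pow_inj {n : ℕ} {a b : Γ(X, U)}
    (h : (𝒮L.str.app (op U)).hom a * tgen j U e ^ n = (𝒮L.str.app (op U)).hom b * tgen j U e ^ n) :
    a = b := by
  have key : ∀ c, Polynomial.eval₂RingHom (𝒮L.str.app (op U)).hom (tgen j U e)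
      (Polynomial.monomial n c) = (𝒮L.str.app (op U)).hom c * tgen j U e ^ n :=
    fun c => Polynomial.eval₂_monomial _ _
  rw [← key, ← key] at h
  simpa using congrArg (Polynomial.coeff · n) ((bijective_poly hLq hj hU he).1 h)

include hLq hj he in
/-- The homogeneous part of degree `n` is free on the `n`-th power of a generator. -/
theorem exists_eq_of_mem {n : ℕ} {x : 𝒮L.presheaf.obj (op U)} (hx : x ∈ 𝒮L.deg U hU n) :
    ∃ a : Γ(X, U), x = (𝒮L.str.app (op U)).hom a * tgen j U e ^ n := by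
  classical
  obtain ⟨p, rfl⟩ := (bijective_poly hLq hj hU he).2 x
  refine ⟨p.coeff n, ?_⟩
  rw [← DirectSum.decompose_of_mem_same (𝒮L.deg U hU) hx, Polynomial.coe_eval₂RingHom,
    Polynomial.eval₂_eq_sum, Polynomial.sum]
  rw [DirectSum.decompose_sum, DFinsupp.finsetSum_apply, AddSubmonoidClass.coe_finset_sum]
  rw [Finset.sum_eq_single n]
  · exact DirectSum.decompose_of_mem_same _ (str_mul_pow_mem hj hU e _ n)
  · intro i _ hi
    exact DirectSum.decompose_of_mem_ne _ (str_mul_pow_mem hj hU e _ i) hi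
  · intro hn
    rw [Polynomial.notMem_support_iff.1 hn, map_zero, zero_mul, DirectSum.decompose_zero]
    rfl

/-- The section generates the part of degree `n`. -/
def Gens (𝒮L : RelProj.QCGrAlg X) {V : X.Opens} (hV : IsAffineOpen V) (n : ℕ)
    (c : 𝒮L.presheaf.obj (op V)) : Prop :=
  (𝒮L.deg V hV n : Set (𝒮L.presheaf.obj (op V))) ⊆ (Ideal.span {c} : Set (𝒮L.presheaf.obj (op V)))

include hLq hj he in
theorem gens_iff_isUnit {n : ℕ} {c : 𝒮L.presheaf.obj (op U)} {a : Γ(X, U)}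
    (hc : c = (𝒮L.str.app (op U)).hom a * tgen j U e ^ n) :
    Gens 𝒮L hU n c ↔ IsUnit a := by
  classical
  refine ⟨fun h => ?_, fun ha y hy => ?_⟩
  · have ht : tgen j U e ^ n ∈ 𝒮L.deg U hU n := by
      have := str_mul_pow_mem hj hU e 1 n
      rwa [map_one, one_mul] at this
    obtain ⟨y, hy⟩ := Ideal.mem_span_singleton'.1 (h ht)
    have hcn : c ∈ 𝒮L.deg U hU n := hc ▸ str_mul_pow_mem hj hU e a n
    have h1 := DirectSum.coe_decompose_mul_of_right_mem_of_le (𝒮L.deg U hU) (a := y) hcn (le_refl n)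
    rw [hy, DirectSum.decompose_of_mem_same _ ht, Nat.sub_self] at h1
    obtain ⟨b, hb⟩ := exists_eq_of_mem hLq hj hU he (SetLike.coe_mem (DirectSum.decompose (𝒮L.deg U hU) y 0))
    rw [hb, pow_zero, mul_one, hc, ← mul_assoc, ← map_mul] at h1
    refine isUnit_iff_exists_inv'.2 ⟨b, str_mul_pow_inj hLq hj hU he (n := n) ?_⟩
    rw [← h1, map_one, one_mul]
  · obtain ⟨b, hb⟩ := exists_eq_of_mem hLq hj hU he hy
    obtain ⟨a', ha'⟩ := isUnit_iff_exists_inv'.1 ha
    refine Ideal.mem_span_singleton'.2 ⟨(𝒮L.str.app (op U)).hom (b * a'), ?_⟩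
    rw [hc, hb, ← mul_assoc, ← map_mul, mul_assoc b, ha', mul_one]

theorem Gens.res {V W : X.Opens} {hV : IsAffineOpen V} {n : ℕ} {c : 𝒮L.presheaf.obj (op V)}
    (h : Gens 𝒮L hV n c) (hW : IsAffineOpen W) (hWV : W ≤ V) (r : Γ(X, V)) (er : W = X.basicOpen r) :
    Gens 𝒮L hW n (gres 𝒮L hWV c) := by
  intro y hy
  have hres := RelProj11.isResLoc (𝒮 := 𝒮L) hV hW hWV r er
  obtain ⟨k, a, ha, hk⟩ := RelProj11.exists_lift hres hy
  obtain ⟨v, hv⟩ := RelProj11.exists_inv hres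
  obtain ⟨m, hm⟩ := Ideal.mem_span_singleton'.1 (h ha)
  have hv' : 𝒮L.res hV hW hWV ((𝒮L.strZero V hV).hom r : 𝒮L.presheaf.obj (op V)) *
      (v : 𝒮L.presheaf.obj (op W)) = 1 := congrArg Subtype.val hv
  refine Ideal.mem_span_singleton'.2
    ⟨(v : 𝒮L.presheaf.obj (op W)) ^ k * 𝒮L.res hV hW hWV m, ?_⟩
  have h2 : 𝒮L.res hV hW hWV m * gres 𝒮L hWV c = 𝒮L.res hV hW hWV a := by
    rw [show gres 𝒮L hWV c = 𝒮L.res hV hW hWV c from rfl, ← map_mul, hm]
  rw [mul_assoc, h2, ← hk, mul_left_comm, ← mul_pow, mul_comm (v : 𝒮L.presheaf.obj (op W)), hv',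
    one_pow, mul_one]

/-- The open where a homogeneous section does not vanish. -/
def nv (𝒮L : RelProj.QCGrAlg X) (U : X.Opens) (n : ℕ) (c : 𝒮L.presheaf.obj (op U)) : X.Opens :=
  ⨆ V : {V : X.affineOpens // ∃ h : (V.1 : X.Opens) ≤ U, Gens 𝒮L V.2 n (gres 𝒮L h c)}, (V.1.1 : X.Opens)

theorem nv_le (U : X.Opens) (n : ℕ) (c : 𝒮L.presheaf.obj (op U)) : nv 𝒮L U n c ≤ U :=
  iSup_le fun V => V.2.1

/-- The section is homogeneous of degree `n` over every affine open. -/
def IsHom (𝒮L : RelProj.QCGrAlg X) (U : X.Opens) (n : ℕ) (c : 𝒮L.presheaf.obj (op U)) : Prop :=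
  ∀ (V : X.Opens) (hV : IsAffineOpen V) (h : V ≤ U), gres 𝒮L h c ∈ 𝒮L.deg V hV n

theorem isHom_of_mem {n : ℕ} {c : 𝒮L.presheaf.obj (op U)} (hc : c ∈ 𝒮L.deg U hU n) :
    IsHom 𝒮L U n c := fun _ hV h => 𝒮L.map_mem hU hV h hc

theorem IsHom.res {U V : X.Opens} {n : ℕ} {c : 𝒮L.presheaf.obj (op U)} (hc : IsHom 𝒮L U n c)
    (h : V ≤ U) : IsHom 𝒮L V n (gres 𝒮L h c) := fun W hW hWV => by
  rw [gres_gres]
  exact hc W hW _

variable (hL : PicF.IsInvertible L)

include hLq hj hL in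
/-- Near every point a homogeneous section is a function times a power of a generator. -/
theorem exists_local {U : X.Opens} {n : ℕ} {c : 𝒮L.presheaf.obj (op U)} (hc : IsHom 𝒮L U n c)
    (O : X.Opens) {x : X} (hxO : x ∈ O) (hxU : x ∈ U) :
    ∃ (V : X.Opens) (_ : IsAffineOpen V) (h : V ≤ U) (e : Γ(L, V)) (a : Γ(X, V)),
      x ∈ V ∧ V ≤ O ∧ M2.IsGenerator e ∧
        gres 𝒮L h c = (𝒮L.str.app (op V)).hom a * tgen j V e ^ n := by
  obtain ⟨V, e, hxV, hVle, hV, he⟩ := Amp.exists_isGenerator hL (V := O ⊓ U) ⟨hxO, hxU⟩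
  obtain ⟨a, ha⟩ := exists_eq_of_mem hLq hj hV he (hc V hV (hVle.trans inf_le_right))
  exact ⟨V, hV, hVle.trans inf_le_right, e, a, hxV, hVle.trans inf_le_left, he, ha⟩

theorem isGenerator_mres {U V : X.Opens} {e : Γ(L, U)} (he : M2.IsGenerator e) (h : V ≤ U) :
    M2.IsGenerator (M1.mres L h e) := fun W hW => by
  have := he W (hW.trans h)
  simp only [M2.res] at this ⊢
  simpa only [M1.mres_mres] using this

include hLq hj in
theorem mem_nv_iff {U₀ : X.Opens} {n : ℕ} {c : 𝒮L.presheaf.obj (op U₀)}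
    {V : X.Opens} (hV : IsAffineOpen V) (h : V ≤ U₀) {e : Γ(L, V)} (he : M2.IsGenerator e)
    {a : Γ(X, V)} (hc : gres 𝒮L h c = (𝒮L.str.app (op V)).hom a * tgen j V e ^ n)
    {x : X} (hx : x ∈ V) : x ∈ nv 𝒮L U₀ n c ↔ x ∈ X.basicOpen a := by
  constructor
  · intro hnv
    obtain ⟨⟨⟨V₀, hV₀⟩, hV₀U, hg⟩, hxV₀⟩ := Opens.mem_iSup.1 hnv
    obtain ⟨W, hW, hxW, -, ⟨r, er⟩, ⟨r', er'⟩⟩ :=
      RelProj11.exists_basic_inside hV₀ hV ⊤ hxV₀ hx trivial
    have hWV₀ : W ≤ V₀ := er.trans_le (X.basicOpen_le r)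
    have hWV : W ≤ V := er'.trans_le (X.basicOpen_le r')
    have hgW := hg.res hW hWV₀ r er
    rw [gres_gres] at hgW
    have hcW : gres 𝒮L (hWV₀.trans hV₀U) c =
        (𝒮L.str.app (op W)).hom (M1.ores hWV a) * tgen j W (M1.mres L hWV e) ^ n := by
      rw [← gres_tgen hWV e, ← gres_str hWV a, ← map_pow, ← map_mul, ← hc, gres_gres]
    have hu := (gens_iff_isUnit hLq hj hW (isGenerator_mres he hWV) hcW).1 hgW
    have : X.basicOpen (M1.ores hWV a) = W :=
      le_antisymm (X.basicOpen_le _) (X.basicOpen_of_isUnit hu).ge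
    rw [X.basicOpen_res a (homOfLE hWV).op] at this
    exact (this.ge.trans inf_le_right) hxW
  · intro hxa
    have hle := X.basicOpen_le a
    refine Opens.mem_iSup.2 ⟨⟨⟨X.basicOpen a, hV.basicOpen a⟩, hle.trans h, ?_⟩, hxa⟩
    refine (gens_iff_isUnit hLq hj (hV.basicOpen a) (isGenerator_mres he hle) ?_).2
      (RingedSpace.isUnit_res_basicOpen X.toRingedSpace a)
    rw [← gres_gres h hle, hc, map_mul, map_pow, gres_tgen, gres_str]
    rfl

include hLq hj hL in
theorem mem_nv_res {U₀ U' : X.Opens} {n : ℕ} {c : 𝒮L.presheaf.obj (op U₀)} (hc : IsHom 𝒮L U₀ n c)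
    (h : U' ≤ U₀) {x : X} (hx : x ∈ U') :
    x ∈ nv 𝒮L U' n (gres 𝒮L h c) ↔ x ∈ nv 𝒮L U₀ n c := by
  obtain ⟨V, hV, hVU, e, a, hxV, -, he, ha⟩ := exists_local hLq hj hL (hc.res h) ⊤ trivial hx
  rw [mem_nv_iff hLq hj hV hVU he ha hxV,
    mem_nv_iff hLq hj hV (hVU.trans h) he (by rwa [gres_gres] at ha) hxV]

section proj

include hLq hj he in
theorem basicOpen_tgen : Proj.basicOpen (𝒮L.deg U hU) (tgen j U e) = ⊤ := by
  refine top_le_iff.1 fun w _ => (ProjectiveSpectrum.mem_basicOpen _ _ _).2 fun hw => ?_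
  refine w.not_irrelevant_le ((HomogeneousIdeal.irrelevant_le _).2 fun i hi y hy => ?_)
  obtain ⟨b, rfl⟩ := exists_eq_of_mem hLq hj hU he hy
  exact Ideal.mul_mem_left _ _ (Ideal.pow_mem_of_mem _ hw i hi)

include hLq hj he in
theorem bijective_away_tgen : Function.Bijective
    ((fromZeroRingHom (𝒮L.deg U hU) (Submonoid.powers (tgen j U e))).comp (𝒮L.strZero U hU).hom) := by
  constructor
  · rw [injective_iff_map_eq_zero]
    intro a ha
    have h1 : Away.mk (𝒮L.deg U hU) (tgen_mem hj hU e) 0 ((𝒮L.str.app (op U)).hom a)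
        (by simpa using 𝒮L.str_mem U hU a) = 0 := by
      rw [← ha]
      apply HomogeneousLocalization.val_injective
      rw [Away.val_mk]
      simp [fromZeroRingHom]
      rfl
    obtain ⟨k, hk⟩ := (RelProj11.away_mk_eq_zero_iff _ (tgen_mem hj hU e)).1 h1
    refine str_mul_pow_inj hLq hj hU he (n := k) ?_
    rw [map_zero, zero_mul, mul_comm, hk]
  · intro z
    obtain ⟨k, y, hy, rfl⟩ := Away.mk_surjective (𝒮L.deg U hU) (tgen_mem hj hU e) z
    obtain ⟨b, rfl⟩ := exists_eq_of_mem hLq hj hU he (n := k) (by simpa using hy)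
    refine ⟨b, HomogeneousLocalization.val_injective _ ?_⟩
    rw [Away.val_mk]
    change Localization.mk ((𝒮L.str.app (op U)).hom b) 1 = _
    rw [Localization.mk_eq_mk_iff, Localization.r_iff_exists]
    exact ⟨1, by simp [mul_comm]⟩

/-- The structure map of the spectrum over an affine open. -/
abbrev toBaseAff (𝒮L : RelProj.QCGrAlg X) (U : X.Opens) (hU : IsAffineOpen U) :
    Proj (𝒮L.deg U hU) ⟶ Spec Γ(X, U) :=
  Proj.toSpecZero (𝒮L.deg U hU) ≫ Spec.map (𝒮L.strZero U hU)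

include hLq hj he in
theorem isIso_awayι_tgen :
    IsIso (Proj.awayι (𝒮L.deg U hU) (tgen j U e) (tgen_mem hj hU e) one_pos) := by
  have : Surjective (Proj.awayι (𝒮L.deg U hU) (tgen j U e) (tgen_mem hj hU e) one_pos) :=
    ⟨fun w => ((Proj.opensRange_awayι _ _ (tgen_mem hj hU e) one_pos).trans
      (basicOpen_tgen hLq hj hU he)).ge (Set.mem_univ w)⟩
  exact (isIso_iff_isOpenImmersion_and_surjective _).2 ⟨inferInstance, this⟩

include hLq hj he in
theorem isIso_toBaseAff : IsIso (toBaseAff 𝒮L U hU) := by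
  haveI := isIso_awayι_tgen hLq hj hU he
  haveI : IsIso (Proj.awayι (𝒮L.deg U hU) (tgen j U e) (tgen_mem hj hU e) one_pos ≫
      toBaseAff 𝒮L U hU) := by
    rw [toBaseAff, Proj.awayι_toSpecZero_assoc, ← Spec.map_comp]
    haveI : IsIso (𝒮L.strZero U hU ≫ CommRingCat.ofHom
        (fromZeroRingHom (𝒮L.deg U hU) (Submonoid.powers (tgen j U e)))) :=
      (ConcreteCategory.isIso_iff_bijective _).2 (bijective_away_tgen hLq hj hU he)
    infer_instance
  exact IsIso.of_isIso_comp_left (Proj.awayι (𝒮L.deg U hU) (tgen j U e) (tgen_mem hj hU e) one_pos) _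

include hLq hj he in
theorem mem_basicOpen_iff_toBase {n : ℕ} (a : Γ(X, U)) (w : Proj (𝒮L.deg U hU)) :
    w ∈ Proj.basicOpen (𝒮L.deg U hU) ((𝒮L.str.app (op U)).hom a * tgen j U e ^ n) ↔
      toBaseAff 𝒮L U hU w ∈ PrimeSpectrum.basicOpen a := by
  haveI := isIso_awayι_tgen hLq hj hU he
  have hn : Proj.basicOpen (𝒮L.deg U hU) ((𝒮L.str.app (op U)).hom a * tgen j U e ^ n) =
      Proj.basicOpen (𝒮L.deg U hU) ((𝒮L.str.app (op U)).hom a * tgen j U e ^ (n + 1)) := by
    symm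
    rw [pow_succ, ← mul_assoc, Proj.basicOpen_mul,
      basicOpen_tgen hLq hj hU he, inf_top_eq]
  rw [hn]
  let f := Proj.awayι (𝒮L.deg U hU) (tgen j U e) (tgen_mem hj hU e) one_pos
  obtain ⟨y, rfl⟩ := f.surjective w
  have h1 := Proj.awayι_preimage_basicOpen (𝒮L.deg U hU) (tgen_mem hj hU e) one_pos
    (str_mul_pow_mem hj hU e a (n + 1)) (Nat.succ_pos n)
  have h2 : f ≫ toBaseAff 𝒮L U hU = Spec.map (𝒮L.strZero U hU ≫ CommRingCat.ofHom
      (fromZeroRingHom (𝒮L.deg U hU) (Submonoid.powers (tgen j U e)))) := by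
    rw [toBaseAff, Proj.awayι_toSpecZero_assoc, ← Spec.map_comp]
  have h3 : toBaseAff 𝒮L U hU (f y) = Spec.map (𝒮L.strZero U hU ≫ CommRingCat.ofHom
      (fromZeroRingHom (𝒮L.deg U hU) (Submonoid.powers (tgen j U e)))) y := by
    rw [← Scheme.Hom.comp_apply, h2]
  rw [h3]
  refine (SetLike.ext_iff.1 h1 y).trans ?_
  change _ ↔ y ∈ PrimeSpectrum.basicOpen _
  rw [show Away.isLocalizationElem (tgen_mem hj hU e) (str_mul_pow_mem hj hU e a (n + 1)) =
      (fromZeroRingHom (𝒮L.deg U hU) (Submonoid.powers (tgen j U e)))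
        ((𝒮L.strZero U hU).hom a) from ?_]
  · rfl
  apply HomogeneousLocalization.val_injective
  rw [Away.val_mk]
  change _ = Localization.mk ((𝒮L.str.app (op U)).hom a) 1
  rw [Localization.mk_eq_mk_iff, Localization.r_iff_exists]
  exact ⟨1, by simp [mul_comm]⟩

variable {pL : PL ⟶ X}
  {chartL : ∀ (U : X.Opens) (hU : IsAffineOpen U), (((pL ⁻¹ᵁ U : PL.Opens) : Scheme.{u}) ≅ Proj (𝒮L.deg U hU))}
  (hPL : RelProj.IsRelProj 𝒮L pL chartL)

include hPL in
theorem emb_comp {V : X.Opens} (hV : IsAffineOpen V) :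
    RelProj.emb pL chartL V hV ≫ pL = toBaseAff 𝒮L V hV ≫ hV.fromSpec := by
  rw [RelProj.emb, Category.assoc, ← hPL.chart_over V hV, Iso.inv_hom_id_assoc, Category.assoc]

include hLq hj hL hPL in
/-- The spectrum of the symmetric algebra of an invertible module is the base. -/
theorem isIso_pL : IsIso pL := by
  choose V e hxV hle hV he using fun x : X => Amp.exists_isGenerator hL (V := ⊤) (x := x) trivial
  have hc : iSup V = ⊤ := top_le_iff.1 fun x _ => Opens.mem_iSup.2 ⟨x, hxV x⟩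
  refine (IsZariskiLocalAtTarget.iff_of_iSup_eq_top (P := MorphismProperty.isomorphisms Scheme) V hc).2
    fun x => ?_
  change IsIso (pL ∣_ V x)
  haveI := isIso_toBaseAff hLq hj (hV x) (he x)
  rw [RelProj11.morphismRestrict_eq hPL (V x) (hV x), ← Category.assoc (Proj.toSpecZero _)]
  infer_instance

include hLq hj hL hPL in
/-- The standard opens are the inverse images of non-vanishing loci. -/
theorem mem_emb_basicOpen_iff {U' : X.Opens} (hU' : IsAffineOpen U') {n : ℕ}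
    {c : 𝒮L.presheaf.obj (op U')} (hc : c ∈ 𝒮L.deg U' hU' n) (z : PL) :
    z ∈ RelProj.emb pL chartL U' hU' ''ᵁ Proj.basicOpen (𝒮L.deg U' hU') c ↔
      pL z ∈ nv 𝒮L U' n c := by
  by_cases hxU : pL z ∈ U'
  swap
  · refine iff_of_false ?_ fun h => hxU (nv_le _ _ _ h)
    rintro ⟨w, -, rfl⟩
    exact hxU ((chartL U' hU').inv w).2
  obtain ⟨V, hV, hVU, e, a, hxV, -, he, ha⟩ :=
    exists_local hLq hj hL (isHom_of_mem hU' hc) ⊤ trivial hxU
  obtain ⟨W, hW, hxW, -, ⟨r, er⟩, ⟨r', er'⟩⟩ :=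
    RelProj11.exists_basic_inside hU' hV ⊤ hxU hxV trivial
  have hWU : W ≤ U' := er.trans_le (X.basicOpen_le r)
  have hWV : W ≤ V := er'.trans_le (X.basicOpen_le r')
  have haW : gres 𝒮L hWU c =
      (𝒮L.str.app (op W)).hom (M1.ores hWV a) * tgen j W (M1.mres L hWV e) ^ n := by
    rw [← gres_gres hVU hWV, ha, map_mul, map_pow, gres_tgen, gres_str]
  rw [mem_nv_iff hLq hj hW hWU (isGenerator_mres he hWV) haW hxW]
  obtain ⟨w, rfl⟩ : z ∈ Set.range (RelProj.emb pL chartL W hW) := by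
    rw [RelProj11.range_emb (𝒮' := 𝒮L) pL chartL W hW]
    exact hxW
  have e1 : RelProj.emb pL chartL W hW w = RelProj.emb pL chartL U' hU'
      (Proj.map (𝒮L.res hU' hW hWU) (RelProj11.irrelevant_le_of_le 𝒮L hU' hW hWU r er) w) := by
    rw [← Scheme.Hom.comp_apply, RelProj11.map_res_emb_eq hPL hU' hW hWU r er]
  have e2 : pL (RelProj.emb pL chartL W hW w) = hW.fromSpec (toBaseAff 𝒮L W hW w) := by
    rw [← Scheme.Hom.comp_apply, emb_comp hPL, Scheme.Hom.comp_apply]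
  rw [e2]
  change _ ↔ toBaseAff 𝒮L W hW w ∈ hW.fromSpec ⁻¹ᵁ X.basicOpen (M1.ores hWV a)
  rw [hW.fromSpec_preimage_basicOpen, ← mem_basicOpen_iff_toBase hLq hj hW (isGenerator_mres he hWV) (n := n),
    ← haW, e1]
  change _ ↔ w ∈ Proj.basicOpen _ (𝒮L.res hU' hW hWU c)
  rw [← Proj.map_preimage_basicOpen (hf := RelProj11.irrelevant_le_of_le 𝒮L hU' hW hWU r er)]
  exact (RelProj.emb pL chartL U' hU').isOpenEmbedding.injective.mem_set_image

variable {Y : Scheme.{u}} {q : X ⟶ Y} {𝒮 : RelProj.QCGrAlg Y} (u : RelProj.QGrHom q 𝒮 𝒮L)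

include hLq hj hL hPL in
/-- A standard chart of the morphism attached to a graded morphism lies over a non-vanishing locus. -/
theorem mem_range_qC_iff (i : RelProj11.QIdx (g := q) (𝒮 := 𝒮)) (z : PL) :
    z ∈ Set.range (RelProj11.qC u pL chartL i) ↔
      pL z ∈ nv 𝒮L i.U' i.d (u.gradedAt i.U i.hU i.U' i.hU' i.hle i.f) := by
  exact (RelProj11.mem_range_qC i).trans
    (mem_emb_basicOpen_iff hLq hj hL hPL i.hU' ((u.gradedAt i.U i.hU i.U' i.hU' i.hle).map_mem i.hf) z)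

variable (hY : IsAffineOpen (⊤ : Y.Opens))

/-- The image of a global section. -/
abbrev usec (f : 𝒮.presheaf.obj (op ⊤)) (V : X.Opens) : 𝒮L.presheaf.obj (op V) :=
  (u.appLE ⊤ V (le_top.trans (Scheme.Hom.preimage_top q).ge)).hom f

theorem gres_usec (f : 𝒮.presheaf.obj (op ⊤)) {V W : X.Opens} (h : W ≤ V) :
    gres 𝒮L h (usec u f V) = usec u f W :=
  ConcreteCategory.congr_hom (u.appLE_map (U := ⊤) (le_top.trans (Scheme.Hom.preimage_top q).ge) h) f

theorem isHom_usec {n : ℕ} {f : 𝒮.presheaf.obj (op ⊤)} (hf : f ∈ 𝒮.deg ⊤ hY n) (V : X.Opens) :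
    IsHom 𝒮L V n (usec u f V) := fun W hW h => by
  rw [gres_usec]
  exact u.map_mem ⊤ hY W hW (le_top.trans (Scheme.Hom.preimage_top q).ge) hf

/-- The non-vanishing locus of the image of a global section. -/
theorem nv_usec_eq (n : ℕ) (f : 𝒮.presheaf.obj (op ⊤)) :
    nv 𝒮L ⊤ n (usec u f ⊤) =
      ⨆ V : {V : X.affineOpens //
          ((𝒮L.deg V.1 V.2 n : AddSubgroup (𝒮L.presheaf.obj (op (V.1 : X.Opens)))) : Set (𝒮L.presheaf.obj (op (V.1 : X.Opens)))) ⊆
            (Ideal.span {(u.appLE ⊤ (V.1 : X.Opens) (le_top.trans (Scheme.Hom.preimage_top q).ge)).hom f} : Set (𝒮L.presheaf.obj (op (V.1 : X.Opens))))},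
          (V.1.1 : X.Opens) := by
  refine le_antisymm (iSup_le fun V => ?_) (iSup_le fun V => ?_)
  · obtain ⟨V, h, hg⟩ := V
    rw [gres_usec] at hg
    exact le_iSup_of_le ⟨V, hg⟩ le_rfl
  · obtain ⟨V, hg⟩ := V
    exact le_iSup_of_le ⟨V, le_top, by rw [gres_usec]; exact hg⟩ le_rfl

include hLq hj hL hPL in
/-- Membership in a standard chart attached to a global section. -/
theorem mem_range_qC_top_iff {V : X.Opens} (hV : IsAffineOpen V) {n : ℕ} (hn : 0 < n)
    {f : 𝒮.presheaf.obj (op ⊤)} (hf : f ∈ 𝒮.deg ⊤ hY n) (z : PL) :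
    z ∈ Set.range (RelProj11.qC u pL chartL
        ⟨⊤, hY, V, hV, le_top.trans (Scheme.Hom.preimage_top q).ge, n, hn, f, hf⟩) ↔
      pL z ∈ V ∧ pL z ∈ nv 𝒮L ⊤ n (usec u f ⊤) := by
  rw [mem_range_qC_iff hLq hj hL hPL u]
  change pL z ∈ nv 𝒮L V n (usec u f V) ↔ _
  constructor
  · intro h
    have hV' := nv_le _ _ _ h
    rw [← gres_usec u f (le_top : V ≤ ⊤), mem_nv_res hLq hj hL (isHom_usec u hY hf ⊤) _ hV'] at h
    exact ⟨hV', h⟩
  · rintro ⟨hV', h⟩
    rwa [← gres_usec u f (le_top : V ≤ ⊤), mem_nv_res hLq hj hL (isHom_usec u hY hf ⊤) _ hV']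

variable {P : Scheme.{u}} {p : P ⟶ Y}
  {chart : ∀ (U : Y.Opens) (hU : IsAffineOpen U), (((p ⁻¹ᵁ U : P.Opens) : Scheme.{u}) ≅ Proj (𝒮.deg U hU))}
  (hP : RelProj.IsRelProj 𝒮 p chart)

include hLq hj hL hPL hP in
/-- The open of definition over an affine base. -/
theorem mem_domQ_iff {z : PL} :
    z ∈ RelProj.domQ u pL chartL ↔
      ∃ (n : ℕ) (_ : 0 < n) (f : 𝒮.presheaf.obj (op ⊤)) (_ : f ∈ 𝒮.deg ⊤ hY n),
        pL z ∈ nv 𝒮L ⊤ n (usec u f ⊤) := by
  obtain ⟨V, hV, hzV, -⟩ :=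
    exists_isAffineOpen_mem_and_subset (U := (⊤ : X.Opens)) (x := pL z) trivial
  constructor
  · intro hz
    obtain ⟨n, hn, f, hf, hz'⟩ := RelProj11.exists_mem_chart hP hPL hY hV
      (le_top.trans (Scheme.Hom.preimage_top q).ge) hz hzV
    exact ⟨n, hn, f, hf, ((mem_range_qC_top_iff hLq hj hL hPL u hY hV hn hf z).1 hz').2⟩
  · rintro ⟨n, hn, f, hf, hz⟩
    have := RelProj11.range_qC_subset _
      ((mem_range_qC_top_iff hLq hj hL hPL u hY hV hn hf z).2 ⟨hzV, hz⟩)
    rwa [Scheme.Opens.range_ι] at this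

include hLq hj hL hPL hP in
/-- The inverse image of a standard open over an affine base. -/
theorem mem_preimage_iff {r : (RelProj.domQ u pL chartL).toScheme ⟶ P}
    (hr : RelProj.IsProjQMapOn u p chart pL chartL (RelProj.domQ u pL chartL) r)
    {n : ℕ} (hn : 0 < n) {f : 𝒮.presheaf.obj (op ⊤)} (hf : f ∈ 𝒮.deg ⊤ hY n)
    (z : (RelProj.domQ u pL chartL).toScheme) :
    r z ∈ RelProj.emb p chart ⊤ hY ''ᵁ Proj.basicOpen (𝒮.deg ⊤ hY) f ↔
      pL z.1 ∈ nv 𝒮L ⊤ n (usec u f ⊤) := by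
  obtain ⟨V, hV, hzV, -⟩ :=
    exists_isAffineOpen_mem_and_subset (U := (⊤ : X.Opens)) (x := pL z.1) trivial
  rw [RelProj11.mem_preimage_emb_basicOpen_iff hP hPL hr
    ⟨⊤, hY, V, hV, le_top.trans (Scheme.Hom.preimage_top q).ge, n, hn, f, hf⟩ z hzV,
    mem_range_qC_top_iff hLq hj hL hPL u hY hV hn hf]
  exact ⟨And.right, fun h => ⟨hzV, h⟩⟩

end proj

end Groth.Agent.SymAlg11
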