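import Groth.Agent.Lib.SymAlg11.LineDom
import Groth.Agent.Lib.Ample18.Ample
import Groth.Agent.Lib.VeryAmple11.Tools

/-!
Sections of tensor powers of an invertible module as homogeneous sections of its symmetric algebra.
-/

universe u

open CategoryTheory CategoryTheory.Limits AlgebraicGeometry TopologicalSpace Opposite
open scoped HomogeneousIdeal

set_option backward.isDefEq.respectTransparency false

noncomputable section

namespace Groth.Agent.SymAlg11

variable {X : Scheme.{u}} {L : X.Modules} {𝒮L : RelProj.QCGrAlg X} {j : L ⟶ 𝒮L.toModule}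
  (hLq : Coh.IsQCoh L) (hj : RelProj.IsGrSymAlg L 𝒮L j) (hL : PicF.IsInvertible L)

theorem isGen_pw {W : Scheme.{u}} {M : W.Modules} (hM : PicF.IsInvertible M) {U : W.Opens} {e : Γ(M, U)}
    (he : M2.IsGenerator e) (n : ℕ) : Twist.IsGen (CohB1.tensorPow M n) U (Amp.pw e n) := by
  have hP : PicF.IsInvertible (CohB1.tensorPow M n) := Amp.isInvertible_tensorPow hM n
  have hgl : U ≤ VA11.gl (L := CohB1.tensorPow M n) (W := U) (Amp.pw e n) := fun x hx =>
    (VA11.mem_gl_iff hP (W := U) hx).2 (Amp.gen_pw hM hx e n (Amp.gen_of_isGenerator he hx))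
  have := VA11.isGen_of_le_gl (L := CohB1.tensorPow M n) (s := Amp.pw e n) hgl
  rwa [M1.mres_id] at this

/-- Membership in a homogeneous part is local. -/
theorem mem_deg_of_locally {V : X.Opens} (hV : IsAffineOpen V) {n : ℕ} {c : 𝒮L.presheaf.obj (op V)}
    (h : ∀ x ∈ V, ∃ (V' : X.Opens) (hV' : IsAffineOpen V') (hle : V' ≤ V),
      x ∈ V' ∧ gres 𝒮L hle c ∈ 𝒮L.deg V' hV' n) : c ∈ 𝒮L.deg V hV n := by
  classical
  suffices hc : (DirectSum.decompose (𝒮L.deg V hV) c n).1 = c from hc ▸ SetLike.coe_mem _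
  refine M1.section_ext (M := 𝒮L.toModule) _ _ fun x hx => ?_
  obtain ⟨V', hV', hle, hxV', hmem⟩ := h x hx
  rw [← TopCat.Presheaf.germ_res_apply 𝒮L.toModule.presheaf (homOfLE hle) x hxV',
    ← TopCat.Presheaf.germ_res_apply 𝒮L.toModule.presheaf (homOfLE hle) x hxV']
  refine congrArg _ ?_
  show 𝒮L.res hV hV' hle (DirectSum.decompose (𝒮L.deg V hV) c n).1 = 𝒮L.res hV hV' hle c
  rw [GradedRingHom.map_directSumDecompose (𝒜 := 𝒮L.deg V hV) (ℬ := 𝒮L.deg V' hV')
    (𝒮L.res hV hV' hle) (x := c) (i := n)]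
  exact DirectSum.decompose_of_mem_same (𝒮L.deg V' hV') hmem

include hLq hj hL in
/-- A section of a power of `L` on an open gives a homogeneous section with the same locus. -/
theorem exists_sec_of_hasSec (W : X.Opens) {n : ℕ} {G : W.toScheme.Opens}
    (h : Amp.HasSec (L.restrict W.ι) n G) :
    ∃ c : 𝒮L.presheaf.obj (op W), IsHom 𝒮L W n c ∧ nv 𝒮L W n c = W.ι ''ᵁ G := by
  obtain ⟨s, rfl⟩ := h
  let M := L.restrict W.ι
  have hM : PicF.IsInvertible M :=
    M2.isInvertible_of_iso ((Scheme.Modules.restrictFunctorIsoPullback W.ι).app L).symm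
      (PicLoc.isInvertible_pullback W.ι hL)
  choose V e hxV hVW hV he using fun x : W.toScheme =>
    Amp.exists_isGenerator hL (V := W) (x := x.1) x.2
  let U : W.toScheme → W.toScheme.Opens := fun x => W.ι ⁻¹ᵁ V x
  have hUV : ∀ x, W.ι ''ᵁ U x ≤ V x := fun x => W.ι.image_preimage_eq_opensRange_inf (V x) ▸ inf_le_right
  have hVU : ∀ x, V x ≤ W.ι ''ᵁ U x := fun x y hy =>
    ⟨⟨y, hVW x hy⟩, hy, rfl⟩
  have hcov : ⨆ x, U x = ⊤ := top_le_iff.1 fun x _ => Opens.mem_iSup.2 ⟨x, hxV x⟩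
  let e' : ∀ x, Γ(M, U x) := fun x => M1.mres L (hUV x) (e x)
  have heX : ∀ x, M2.IsGenerator (M := L) (U := W.ι ''ᵁ U x) (e' x) := fun x => isGenerator_mres (he x) (hUV x)
  have he' : ∀ x, M2.IsGenerator (M := M) (e' x) := fun x Z hZ => by
    have h1 := heX x (W.ι ''ᵁ Z) (W.ι.image_mono hZ)
    refine ⟨fun a b hab => h1.1 ?_, fun t => ?_⟩
    · have := congrArg (L.restrictAppIso W.ι Z).hom hab
      rw [M1.restrict_ι_smul, M1.restrict_ι_smul] at this
      exact this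
    · obtain ⟨a, ha⟩ := h1.2 t
      exact ⟨a, (M1.restrict_ι_smul L (U := W) a _).trans ha⟩
  let P := CohB1.tensorPow M n
  let Q := 𝒮L.toModule.restrict W.ι
  let q : ∀ x, Γ(Q, U x) := fun x => tgen j (W.ι ''ᵁ U x) (e' x) ^ n
  have hp : ∀ x, Twist.IsGen P (U x) (Amp.pw (e' x) n) := fun x => isGen_pw hM (he' x) n
  have hpq : Twist.SameTransition (P := P) (Q := Q) U (fun x => Amp.pw (e' x) n) q := by
    intro a b Z ha hb t ht
    obtain ⟨c, hc⟩ := (heX a (W.ι ''ᵁ Z) (W.ι.image_mono ha)).2 (M1.mres L (W.ι.image_mono hb) (e' b))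
    have hcM : (show Γ(W.toScheme, Z) from c) • M1.mres M ha (e' a) = M1.mres M hb (e' b) :=
      (M1.restrict_ι_smul L (U := W) c _).trans hc
    have ht' : t = (show Γ(W.toScheme, Z) from c) ^ n := by
      refine (hp a Z ha).1 ?_
      show t • M1.mres P ha (Amp.pw (e' a) n) = _ • M1.mres P ha (Amp.pw (e' a) n)
      rw [← ht]
      rw [show M1.mres P hb (Amp.pw (e' b) n) = Amp.pw (M1.mres M hb (e' b)) n from Amp.res_pw hb _ n,
        show M1.mres P ha (Amp.pw (e' a) n) = Amp.pw (M1.mres M ha (e' a)) n from Amp.res_pw ha _ n,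
        ← hcM, Amp.pw_smul]
    subst ht'
    refine Eq.trans ?_ (M1.restrict_ι_smul 𝒮L.toModule (U := W) (W := Z) (c ^ n) _).symm
    show gres 𝒮L (W.ι.image_mono hb) (q b) =
      (𝒮L.str.app (op (W.ι ''ᵁ Z))).hom (c ^ n) * gres 𝒮L (W.ι.image_mono ha) (q a)
    simp only [q, map_pow, gres_tgen, ← mul_pow]
    congr 1
    exact (congrArg (j.app (W.ι ''ᵁ Z)) hc.symm).trans (j.app_smul c _)
  let θ := Twist.glueHom U hcov (fun x => Amp.pw (e' x) n) q hp hpq
  let c : 𝒮L.presheaf.obj (op W) := gres 𝒮L (M1.image_ι_top W).ge (θ.app ⊤ (Amp.gval s))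
  refine ⟨c, ?_⟩
  have hloc : ∀ x : W.toScheme, ∃ a : Γ(X, W.ι ''ᵁ U x), (show Γ(W.toScheme, U x) from a) • Amp.pw (e' x) n =
        M1.mres P le_top (Amp.gval s) ∧
      gres 𝒮L ((hUV x).trans (hVW x)) c =
        (𝒮L.str.app (op (W.ι ''ᵁ U x))).hom a * tgen j (W.ι ''ᵁ U x) (e' x) ^ n := by
    intro x
    obtain ⟨a, ha⟩ := (hp x (U x) le_rfl).2 (M1.mres P le_top (Amp.gval s))
    simp only [M1.mres_id] at ha
    refine ⟨a, ha, ?_⟩
    show gres 𝒮L _ (gres 𝒮L _ _) = _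
    rw [gres_gres]
    show M1.mres Q (le_top : U x ≤ ⊤) (θ.app ⊤ (Amp.gval s)) = _
    rw [← M1.app_mres θ, ← ha, θ.app_smul, Twist.glueHom_app_gen]
    exact M1.restrict_ι_smul 𝒮L.toModule (U := W) (W := U x) a _
  have hA : ∀ x, IsAffineOpen (W.ι ''ᵁ U x) := fun x => (le_antisymm (hUV x) (hVU x)).symm ▸ hV x
  refine ⟨fun V' hV' hle => mem_deg_of_locally hV' fun y hy => ?_, SetLike.ext fun y => ?_⟩
  · obtain ⟨a, -, ha⟩ := hloc ⟨y, hle hy⟩
    obtain ⟨V'', hV'', hyV'', hV''le⟩ := exists_isAffineOpen_mem_and_subset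
      (show y ∈ V' ⊓ W.ι ''ᵁ U ⟨y, hle hy⟩ from ⟨hy, hVU _ (hxV ⟨y, hle hy⟩)⟩)
    refine ⟨V'', hV'', hV''le.trans inf_le_left, hyV'', ?_⟩
    rw [gres_gres, ← gres_gres ((hUV ⟨y, hle hy⟩).trans (hVW _)) (hV''le.trans inf_le_right), ha]
    exact 𝒮L.map_mem (hA _) hV'' _ (str_mul_pow_mem hj (hA _) _ a n)
  · by_cases hyW : y ∈ W
    swap
    · refine iff_of_false (fun h => hyW (nv_le _ _ _ h)) ?_
      rintro ⟨z, -, rfl⟩
      exact hyW z.2
    let x : W.toScheme := ⟨y, hyW⟩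
    obtain ⟨a, ha, hac⟩ := hloc x
    rw [mem_nv_iff hLq hj (hA x) ((hUV x).trans (hVW x)) (heX x) hac (hVU x (hxV x))]
    have hG := Amp.genLocus_inf_eq_basicOpen (Amp.isInvertible_tensorPow hM n) s
      (e := Amp.pw (e' x) n) (hp x) ha
    have hb : W.ι ''ᵁ (W.toScheme.basicOpen (U := U x) a) = X.basicOpen a := by
      rw [Scheme.image_basicOpen, Scheme.Opens.ι_appIso]
      rfl
    rw [← hb, ← hG]
    exact ⟨fun ⟨z, hz, e⟩ => ⟨z, hz.1, e⟩, fun ⟨z, hz, e⟩ => ⟨z, ⟨hz, by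
      obtain rfl : z = x := Subtype.ext e
      exact hxV _⟩, e⟩⟩

include hLq hj in
theorem str_mul_pow_inj' {Z : X.Opens} {e : Γ(L, Z)} (he : M2.IsGenerator e) {n : ℕ} {a b : Γ(X, Z)}
    (h : (𝒮L.str.app (op Z)).hom a * tgen j Z e ^ n = (𝒮L.str.app (op Z)).hom b * tgen j Z e ^ n) :
    a = b := by
  refine TopCat.Presheaf.section_ext X.sheaf _ _ _ fun x hx => ?_
  obtain ⟨V, hV, hxV, hle⟩ := exists_isAffineOpen_mem_and_subset hx
  show X.presheaf.germ Z x hx a = X.presheaf.germ Z x hx b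
  rw [← X.presheaf.germ_res_apply (homOfLE hle) x hxV a, ← X.presheaf.germ_res_apply (homOfLE hle) x hxV b]
  refine congrArg _ (str_mul_pow_inj hLq hj hV (isGenerator_mres he hle) (n := n) ?_)
  have h1 := congrArg (gres 𝒮L hle) h
  simp only [map_mul, map_pow, gres_tgen, gres_str] at h1
  exact h1

include hLq hj hL in
/-- A homogeneous section gives a section of a power of `L` with the same locus. -/
theorem hasSec_of_isHom (W : X.Opens) {n : ℕ} {c : 𝒮L.presheaf.obj (op W)} (hc : IsHom 𝒮L W n c) :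
    Amp.HasSec (L.restrict W.ι) n (W.ι ⁻¹ᵁ nv 𝒮L W n c) := by
  let M := L.restrict W.ι
  have hM : PicF.IsInvertible M :=
    M2.isInvertible_of_iso ((Scheme.Modules.restrictFunctorIsoPullback W.ι).app L).symm
      (PicLoc.isInvertible_pullback W.ι hL)
  choose V e hxV hVW hV he using fun x : W.toScheme =>
    Amp.exists_isGenerator hL (V := W) (x := x.1) x.2
  let U : W.toScheme → W.toScheme.Opens := fun x => W.ι ⁻¹ᵁ V x
  have hUV : ∀ x, W.ι ''ᵁ U x ≤ V x := fun x => W.ι.image_preimage_eq_opensRange_inf (V x) ▸ inf_le_right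
  have hVU : ∀ x, V x ≤ W.ι ''ᵁ U x := fun x y hy =>
    ⟨⟨y, hVW x hy⟩, hy, rfl⟩
  let e' : ∀ x, Γ(M, U x) := fun x => M1.mres L (hUV x) (e x)
  have heX : ∀ x, M2.IsGenerator (M := L) (U := W.ι ''ᵁ U x) (e' x) := fun x => isGenerator_mres (he x) (hUV x)
  have he' : ∀ x, M2.IsGenerator (M := M) (e' x) := fun x Z hZ => by
    have h1 := heX x (W.ι ''ᵁ Z) (W.ι.image_mono hZ)
    refine ⟨fun a b hab => h1.1 ?_, fun t => ?_⟩
    · have := congrArg (L.restrictAppIso W.ι Z).hom hab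
      rw [M1.restrict_ι_smul, M1.restrict_ι_smul] at this
      exact this
    · obtain ⟨a, ha⟩ := h1.2 t
      exact ⟨a, (M1.restrict_ι_smul L (U := W) a _).trans ha⟩
  let P := CohB1.tensorPow M n
  have hA : ∀ x, IsAffineOpen (W.ι ''ᵁ U x) := fun x => (le_antisymm (hUV x) (hVU x)).symm ▸ hV x
  choose a ha using fun x => exists_eq_of_mem hLq hj (hA x) (heX x)
    (hc (W.ι ''ᵁ U x) (hA x) ((hUV x).trans (hVW x)))
  let σ : ∀ x, Γ(P, U x) := fun x => (show Γ(W.toScheme, U x) from a x) • Amp.pw (e' x) n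
  obtain ⟨g, hg, -⟩ := TopCat.Sheaf.existsUnique_gluing' ⟨_, P.isSheaf⟩ U ⊤ (fun x => homOfLE le_top)
    (fun x _ => Opens.mem_iSup.2 ⟨x, hxV x⟩) σ fun x y => by
      show M1.mres P inf_le_left (σ x) = M1.mres P inf_le_right (σ y)
      set Z := U x ⊓ U y
      obtain ⟨b, hb⟩ := (heX x (W.ι ''ᵁ Z) (W.ι.image_mono inf_le_left)).2
        (M1.mres L (W.ι.image_mono (inf_le_right : Z ≤ U y)) (e' y))
      have hbM : (show Γ(W.toScheme, Z) from b) • M1.mres M (inf_le_left : Z ≤ U x) (e' x) =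
          M1.mres M (inf_le_right : Z ≤ U y) (e' y) := (M1.restrict_ι_smul L (U := W) b _).trans hb
      have h1 : M1.ores (W.ι.image_mono (inf_le_left : Z ≤ U x)) (a x) =
          M1.ores (W.ι.image_mono (inf_le_right : Z ≤ U y)) (a y) * b ^ n := by
        refine str_mul_pow_inj' hLq hj (Z := W.ι ''ᵁ Z)
          (isGenerator_mres (heX x) (W.ι.image_mono inf_le_left)) (n := n) ?_
        have h2 := congrArg (gres 𝒮L (W.ι.image_mono (inf_le_left : Z ≤ U x))) (ha x)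
        have h3 := congrArg (gres 𝒮L (W.ι.image_mono (inf_le_right : Z ≤ U y))) (ha y)
        simp only [map_mul, map_pow, gres_tgen, gres_str, gres_gres] at h2 h3
        have h4 : tgen j (W.ι ''ᵁ Z) (M1.mres L (W.ι.image_mono (inf_le_right : Z ≤ U y)) (e' y)) =
            (𝒮L.str.app (op (W.ι ''ᵁ Z))).hom b *
              tgen j (W.ι ''ᵁ Z) (M1.mres L (W.ι.image_mono (inf_le_left : Z ≤ U x)) (e' x)) :=
          (congrArg (j.app (W.ι ''ᵁ Z)) hb.symm).trans (j.app_smul b _)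
        rw [map_mul, map_pow, mul_assoc, ← mul_pow, ← h4, ← h2, ← h3]
      simp only [σ, M1.mres_smul]
      rw [show M1.mres P (inf_le_right : Z ≤ U y) (Amp.pw (e' y) n) =
          Amp.pw (M1.mres M (inf_le_right : Z ≤ U y) (e' y)) n from Amp.res_pw _ _ n,
        show M1.mres P (inf_le_left : Z ≤ U x) (Amp.pw (e' x) n) =
          Amp.pw (M1.mres M (inf_le_left : Z ≤ U x) (e' x)) n from Amp.res_pw _ _ n,
        ← hbM, Amp.pw_smul, smul_smul]
      refine congrArg (fun r : Γ(W.toScheme, Z) => r • Amp.pw (M1.mres M (inf_le_left : Z ≤ U x) (e' x)) n) ?_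
      simp only [Scheme.Opens.toScheme_presheaf_map]
      exact h1
  have hg' : ∀ x, M1.mres P (le_top : U x ≤ ⊤) g = σ x := hg
  refine ⟨M1.secHom g, SetLike.ext fun z => ?_⟩
  have h5 := Amp.genLocus_inf_eq_basicOpen (Amp.isInvertible_tensorPow hM n) (M1.secHom g)
    (isGen_pw hM (he' z) n) (a := a z) (by rw [Amp.gval_secHom]; exact (hg' z).symm)
  have hb : W.ι ''ᵁ (W.toScheme.basicOpen (U := U z) (a z)) = X.basicOpen (a z) := by
    rw [Scheme.image_basicOpen, Scheme.Opens.ι_appIso]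
    rfl
  show _ ↔ z.1 ∈ nv 𝒮L W n c
  rw [mem_nv_iff hLq hj (hA z) ((hUV z).trans (hVW z)) (heX z) (ha z) (hVU z (hxV z)), ← hb, ← h5]
  exact ⟨fun h => ⟨z, ⟨h, hxV z⟩, rfl⟩, fun ⟨w, hw, e⟩ => (Subtype.ext e : w = z) ▸ hw.1⟩

end Groth.Agent.SymAlg11
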