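import Groth.Agent.Lib.SymAlg11.LineDom

/-!
Immersion criteria for the morphism attached to an invertible module and a graded morphism.
-/

universe u

open CategoryTheory CategoryTheory.Limits AlgebraicGeometry TopologicalSpace Opposite HomogeneousLocalization
open scoped HomogeneousIdeal

set_option backward.isDefEq.respectTransparency false

noncomputable section

namespace Groth.Agent.SymAlg11

/-- Restricting a composite with an open immersion inside its range. -/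
theorem restrict_comp_ι_iff {A B : Scheme.{u}} {U₀ : B.Opens} (r' : A ⟶ U₀) (r : A ⟶ B)
    (h : r' ≫ U₀.ι = r) {D : B.Opens} (hD : D ≤ U₀) (Q : MorphismProperty Scheme.{u}) [Q.RespectsIso] :
    Q (r' ∣_ (U₀.ι ⁻¹ᵁ D)) ↔ Q (r ∣_ D) := by
  subst h
  rw [morphismRestrict_comp]
  haveI : IsIso (U₀.ι ∣_ D) := by
    refine (isIso_iff_isOpenImmersion_and_surjective _).2 ⟨inferInstance, ⟨fun x => ?_⟩⟩
    exact ⟨⟨⟨x.1, hD x.2⟩, x.2⟩, Subtype.ext (by simp)⟩
  exact (MorphismProperty.cancel_right_of_respectsIso Q _ (U₀.ι ∣_ D)).symm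

theorem surjective_of_isClosedImmersion_spec {R S : CommRingCat.{u}} (φ : R ⟶ S)
    [IsClosedImmersion (Spec.map φ)] : Function.Surjective φ.hom := by
  intro z
  obtain ⟨w, hw⟩ := (IsClosedImmersion.isAffine_surjective_of_isAffine (f := Spec.map φ)).2
    ((Scheme.ΓSpecIso S).inv z)
  refine ⟨(Scheme.ΓSpecIso R).hom w, ?_⟩
  refine (ConcreteCategory.congr_hom (Scheme.ΓSpecIso_naturality φ) w).symm.trans ?_
  change (Scheme.ΓSpecIso S).hom ((Spec.map φ).appTop w) = z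
  rw [hw]
  exact ConcreteCategory.congr_hom (Scheme.ΓSpecIso S).inv_hom_id z

theorem bijective_of_isIso_spec {R S : CommRingCat.{u}} (φ : R ⟶ S)
    [IsIso (Spec.map φ)] : Function.Bijective φ.hom := by
  haveI : IsIso (Scheme.Spec.map φ.op) := inferInstanceAs (IsIso (Spec.map φ))
  haveI : IsIso φ := (isIso_op_iff _).1 (Spec.fullyFaithful.isIso_of_isIso_map φ.op)
  exact ConcreteCategory.bijective_of_isIso φ

variable {Y X P PL : Scheme.{u}} {q : X ⟶ Y} {L : X.Modules} {𝒮 : RelProj.QCGrAlg Y}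
  {𝒮L : RelProj.QCGrAlg X} {j : L ⟶ 𝒮L.toModule}
  (hLq : Coh.IsQCoh L) (hj : RelProj.IsGrSymAlg L 𝒮L j) (hL : PicF.IsInvertible L)
  (u : RelProj.QGrHom q 𝒮 𝒮L)
  {p : P ⟶ Y}
  {chart : ∀ (U : Y.Opens) (hU : IsAffineOpen U), (((p ⁻¹ᵁ U : P.Opens) : Scheme.{u}) ≅ Proj (𝒮.deg U hU))}
  (hP : RelProj.IsRelProj 𝒮 p chart)
  {pL : PL ⟶ X}
  {chartL : ∀ (U : X.Opens) (hU : IsAffineOpen U), (((pL ⁻¹ᵁ U : PL.Opens) : Scheme.{u}) ≅ Proj (𝒮L.deg U hU))}
  (hPL : RelProj.IsRelProj 𝒮L pL chartL)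
  {r : (RelProj.domQ u pL chartL).toScheme ⟶ P}
  (hr : RelProj.IsProjQMapOn u p chart pL chartL (RelProj.domQ u pL chartL) r)
  (hY : IsAffineOpen (⊤ : Y.Opens))

/-- The standard open of a global section. -/
abbrev dplus (p : P ⟶ Y)
    (chart : ∀ (U : Y.Opens) (hU : IsAffineOpen U), (((p ⁻¹ᵁ U : P.Opens) : Scheme.{u}) ≅ Proj (𝒮.deg U hU)))
    (s : 𝒮.presheaf.obj (op ⊤)) : P.Opens :=
  RelProj.emb p chart ⊤ hY ''ᵁ Proj.basicOpen (𝒮.deg ⊤ hY) s

/-- The locus where the image of a global section generates. -/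
abbrev xt (n : ℕ) (s : 𝒮.presheaf.obj (op ⊤)) : X.Opens := nv 𝒮L ⊤ n (usec u s ⊤)

include hLq hj hL hPL hP hr in
theorem image_preimage_dplus {n : ℕ} (hn : 0 < n) {s : 𝒮.presheaf.obj (op ⊤)}
    (hs : s ∈ 𝒮.deg ⊤ hY n) :
    (RelProj.domQ u pL chartL).ι ''ᵁ (r ⁻¹ᵁ dplus hY p chart s) = pL ⁻¹ᵁ xt u n s := by
  refine SetLike.ext fun z => ⟨?_, fun hz => ?_⟩
  · rintro ⟨z', hz', rfl⟩
    exact (mem_preimage_iff hLq hj hL hPL u hY hP hr hn hs z').1 hz'
  · have hdom : z ∈ RelProj.domQ u pL chartL :=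
      (mem_domQ_iff hLq hj hL hPL u hY hP).2 ⟨n, hn, s, hs, hz⟩
    exact ⟨⟨z, hdom⟩, (mem_preimage_iff hLq hj hL hPL u hY hP hr hn hs ⟨z, hdom⟩).2 hz, rfl⟩

include hLq hj hL hPL hP hr in
theorem isAffineOpen_xt {n : ℕ} (hn : 0 < n) {s : 𝒮.presheaf.obj (op ⊤)}
    (hs : s ∈ 𝒮.deg ⊤ hY n) (hc : IsAffineHom (r ∣_ dplus hY p chart s)) :
    IsAffineOpen (xt u n s) := by
  haveI := isIso_pL hLq hj hL hPL
  haveI : IsAffine (dplus hY p chart s).toScheme :=
    ((Proj.isAffineOpen_basicOpen _ s hs hn).image_of_isOpenImmersion (RelProj.emb p chart ⊤ hY))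
  have hW : IsAffineOpen (r ⁻¹ᵁ dplus hY p chart s) := isAffine_of_isAffineHom (r ∣_ dplus hY p chart s)
  have := (hW.image_of_isOpenImmersion (RelProj.domQ u pL chartL).ι).image_of_isOpenImmersion pL
  rw [image_preimage_dplus hLq hj hL u hP hPL hr hY hn hs,
    Scheme.Hom.image_preimage_eq_opensRange_inf] at this
  rwa [show pL.opensRange = ⊤ from Opens.ext (Set.range_eq_univ.2 pL.surjective), top_inf_eq] at this

section chartAt

variable {n : ℕ} (hn : 0 < n) {s : 𝒮.presheaf.obj (op ⊤)} (hs : s ∈ 𝒮.deg ⊤ hY n)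
  (hA : IsAffineOpen (xt u n s))

/-- The chart index of a global section with affine non-vanishing locus. -/
abbrev idx : RelProj11.QIdx (g := q) (𝒮 := 𝒮) :=
  ⟨⊤, hY, xt u n s, hA, le_top.trans (Scheme.Hom.preimage_top q).ge, n, hn, s, hs⟩

/-- The graded map to the sections over the non-vanishing locus. -/
abbrev ψT : 𝒮.deg ⊤ hY →+*ᵍ 𝒮L.deg (xt u n s) hA :=
  u.gradedAt ⊤ hY (xt u n s) hA (le_top.trans (Scheme.Hom.preimage_top q).ge)

/-- Functions as fractions with denominator the image of the section. -/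
abbrev sigmaT : Γ(X, xt u n s) →+* Away (𝒮L.deg (xt u n s) hA) (ψT u hY hA s) :=
  (fromZeroRingHom (𝒮L.deg (xt u n s) hA) (Submonoid.powers (ψT u hY hA s))).comp
    (𝒮L.strZero (xt u n s) hA).hom

include hLq hj hL hPL hn hs in
theorem bijective_sigmaT : Function.Bijective (sigmaT u hY hA) := by
  haveI := isIso_pL hLq hj hL hPL
  let f := RelProj11.qC u pL chartL (idx u hY hn hs hA) ≫ pL
  have e : f = Spec.map (CommRingCat.ofHom (sigmaT u hY hA)) ≫ hA.fromSpec := by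
    change (RelProj.awayEmb _ _ _ _ _ _ _ _ _ _ _) ≫ pL = _
    rw [RelProj.awayEmb, Category.assoc, emb_comp hPL, toBaseAff, Category.assoc,
      Proj.awayι_toSpecZero_assoc, ← Spec.map_comp_assoc]
    rfl
  haveI : IsOpenImmersion (Spec.map (CommRingCat.ofHom (sigmaT u hY hA)) ≫ hA.fromSpec) := e ▸ inferInstance
  haveI : IsOpenImmersion (Spec.map (CommRingCat.ofHom (sigmaT u hY hA))) :=
    IsOpenImmersion.of_comp _ hA.fromSpec
  have hsurj : Surjective (Spec.map (CommRingCat.ofHom (sigmaT u hY hA))) := by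
    refine ⟨fun y => ?_⟩
    have hx : hA.fromSpec y ∈ xt u n s := hA.opensRange_fromSpec.le ⟨y, rfl⟩
    obtain ⟨z, hz⟩ := pL.surjective (hA.fromSpec y)
    obtain ⟨w, hw⟩ := (mem_range_qC_top_iff hLq hj hL hPL u hY hA hn hs z).2
      ⟨hz ▸ hx, hz ▸ hx⟩
    refine ⟨w, hA.fromSpec.isOpenEmbedding.injective ?_⟩
    have h' : f w = hA.fromSpec (Spec.map (CommRingCat.ofHom (sigmaT u hY hA)) w) := by
      rw [e]; rfl
    rw [← h', ← hz, ← hw]
    rfl
  haveI : IsIso (Spec.map (CommRingCat.ofHom (sigmaT u hY hA))) :=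
    (isIso_iff_isOpenImmersion_and_surjective _).2 ⟨inferInstance, hsurj⟩
  haveI : IsIso (Scheme.Spec.map (CommRingCat.ofHom (sigmaT u hY hA)).op) :=
    inferInstanceAs (IsIso (Spec.map (CommRingCat.ofHom (sigmaT u hY hA))))
  haveI : IsIso (CommRingCat.ofHom (sigmaT u hY hA)) :=
    (isIso_op_iff _).1 (Spec.fullyFaithful.isIso_of_isIso_map (CommRingCat.ofHom (sigmaT u hY hA)).op)
  exact ConcreteCategory.bijective_of_isIso (CommRingCat.ofHom (sigmaT u hY hA))

include hLq hj hL hPL hP hr hn hs in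
theorem restrict_dplus_iff (Q : MorphismProperty Scheme.{u}) [Q.RespectsIso] :
    Q (r ∣_ dplus hY p chart s) ↔
      Q (Spec.map (CommRingCat.ofHom (Away.map (ψT u hY hA) s))) := by
  let ε := Proj.awayι (𝒮.deg ⊤ hY) s hs hn ≫ RelProj.emb p chart ⊤ hY
  have hε : ε.opensRange = dplus hY p chart s := by
    rw [Scheme.Hom.opensRange_comp, Proj.opensRange_awayι]
  have H : IsPullback (Spec.map (CommRingCat.ofHom (Away.map (ψT u hY hA) s)))
      (IsOpenImmersion.lift (RelProj.domQ u pL chartL).ι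
        (RelProj11.qC u pL chartL (idx u hY hn hs hA)) (RelProj11.range_qC_subset _)) ε r := by
    refine IsOpenImmersion.isPullback _ _ ε r ?_ ?_
    · exact RelProj11.lift_qC_comp hr (idx u hY hn hs hA)
    · rw [hε]
      refine SetLike.ext fun z => ?_
      refine Iff.trans (mem_preimage_iff hLq hj hL hPL u hY hP hr hn hs z) ⟨fun h => ?_, ?_⟩
      · obtain ⟨w, hw⟩ := (mem_range_qC_top_iff hLq hj hL hPL u hY hA hn hs z.1).2 ⟨h, h⟩
        refine ⟨w, (RelProj.domQ u pL chartL).ι.isOpenEmbedding.injective ?_⟩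
        rw [← Scheme.Hom.comp_apply, IsOpenImmersion.lift_fac]
        exact hw
      · rintro ⟨w, rfl⟩
        refine ((mem_range_qC_top_iff hLq hj hL hPL u hY hA hn hs _).1 ⟨w, ?_⟩).2
        rw [← Scheme.Opens.ι_apply, ← Scheme.Hom.comp_apply, IsOpenImmersion.lift_fac]
        rfl
  have h1 := Q.arrow_mk_iso_iff (morphismRestrictOpensRange r ε)
  rw [hε] at h1
  rw [h1, ← H.flip.isoPullback_inv_snd]
  exact MorphismProperty.cancel_left_of_respectsIso Q _ _

include hLq hj hL hPL hn hs in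
theorem surjective_away_iff :
    Function.Surjective (Away.map (ψT u hY hA) s) ↔
      ∀ t : X.presheaf.obj (op (xt u n s)), ∃ (m : ℕ) (_ : 0 < m) (s' : 𝒮.presheaf.obj (op ⊤))
        (_ : s' ∈ 𝒮.deg ⊤ hY (m * n)),
        (𝒮L.str.app (op (xt u n s))).hom t * usec u s (xt u n s) ^ m = usec u s' (xt u n s) := by
  constructor
  · intro hsurj t
    obtain ⟨z, hz⟩ := hsurj (sigmaT u hY hA t)
    obtain ⟨m, s', hs', rfl⟩ := Away.mk_surjective (𝒮.deg ⊤ hY) hs z
    rw [Away.map_mk] at hz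
    have h1 := congrArg HomogeneousLocalization.val hz
    rw [Away.val_mk] at h1
    change _ = Localization.mk ((𝒮L.str.app (op (xt u n s))).hom t) 1 at h1
    rw [Localization.mk_eq_mk_iff, Localization.r_iff_exists] at h1
    obtain ⟨⟨_, k, rfl⟩, hk⟩ := h1
    refine ⟨k + m + 1, Nat.succ_pos _, s ^ (k + 1) * s', ?_, ?_⟩
    · have := SetLike.mul_mem_graded (SetLike.pow_mem_graded (k + 1) hs) hs'
      rwa [smul_eq_mul, smul_eq_mul, ← add_mul, show k + 1 + m = k + m + 1 by omega] at this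
    · simp only [OneMemClass.coe_one, one_mul] at hk
      change usec u s (xt u n s) ^ k * usec u s' (xt u n s) =
        usec u s (xt u n s) ^ k * (usec u s (xt u n s) ^ m *
          (𝒮L.str.app (op (xt u n s))).hom t) at hk
      change _ = (u.appLE ⊤ (xt u n s) (le_top.trans (Scheme.Hom.preimage_top q).ge)).hom (s ^ (k + 1) * s')
      rw [map_mul, map_pow, show k + m + 1 = 1 + (k + m) by omega, show k + 1 = 1 + k by omega,
        pow_add, pow_add, pow_add]
      linear_combination (-(usec u s (xt u n s) ^ 1)) * hk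
  · intro h z
    obtain ⟨t, rfl⟩ := (bijective_sigmaT hLq hj hL u hPL hY hn hs hA).2 z
    obtain ⟨m, -, s', hs', e⟩ := h t
    refine ⟨Away.mk (𝒮.deg ⊤ hY) hs m s' (by rwa [smul_eq_mul]), ?_⟩
    rw [Away.map_mk]
    apply HomogeneousLocalization.val_injective
    rw [Away.val_mk]
    change _ = Localization.mk ((𝒮L.str.app (op (xt u n s))).hom t) 1
    rw [Localization.mk_eq_mk_iff, Localization.r_iff_exists]
    refine ⟨1, ?_⟩
    simp only [OneMemClass.coe_one, one_mul]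
    exact e.symm.trans (mul_comm _ _)

include hs in
theorem injective_away_iff :
    Function.Injective (Away.map (ψT u hY hA) s) ↔
      ∀ m : ℕ, 0 < m → ∀ s' ∈ 𝒮.deg ⊤ hY (m * n),
        usec u s' (xt u n s) = 0 → ∃ k : ℕ, 0 < k ∧ s ^ k * s' = 0 := by
  constructor
  · intro hinj m _ s' hs' h0
    have : Away.mk (𝒮.deg ⊤ hY) hs m s' (by rwa [smul_eq_mul]) = 0 := by
      refine hinj ?_
      rw [Away.map_mk, map_zero]
      exact (RelProj11.away_mk_eq_zero_iff _ _).2 ⟨0, by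
        change _ * usec u s' (xt u n s) = 0
        rw [h0, mul_zero]⟩
    obtain ⟨k, hk⟩ := (RelProj11.away_mk_eq_zero_iff _ _).1 this
    exact ⟨k + 1, Nat.succ_pos _, by rw [pow_succ', mul_assoc, hk, mul_zero]⟩
  · intro h
    rw [injective_iff_map_eq_zero]
    intro z hz
    obtain ⟨m, s', hs', rfl⟩ := Away.mk_surjective (𝒮.deg ⊤ hY) hs z
    rw [Away.map_mk] at hz
    obtain ⟨k, hk⟩ := (RelProj11.away_mk_eq_zero_iff _ _).1 hz
    have hmem : s ^ (k + 1) * s' ∈ 𝒮.deg ⊤ hY ((k + 1 + m) * n) := by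
      have := SetLike.mul_mem_graded (SetLike.pow_mem_graded (k + 1) hs) hs'
      rwa [smul_eq_mul, smul_eq_mul, ← add_mul] at this
    obtain ⟨k', -, hk'⟩ := h (k + 1 + m) (by omega) _ hmem (by
      change (u.appLE ⊤ (xt u n s) (le_top.trans (Scheme.Hom.preimage_top q).ge)).hom _ = 0
      rw [map_mul, map_pow, pow_succ', mul_assoc]
      exact mul_eq_zero_of_right _ hk)
    exact (RelProj11.away_mk_eq_zero_iff _ _).2 ⟨k' + (k + 1), by rw [pow_add, mul_assoc, hk']⟩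

end chartAt

include hLq hj hL hPL hP hr in
/-- A property of the restriction to a standard open, with an affine non-vanishing locus. -/
theorem affine_and_surjective {n : ℕ} (hn : 0 < n) {s : 𝒮.presheaf.obj (op ⊤)}
    (hs : s ∈ 𝒮.deg ⊤ hY n) :
    IsClosedImmersion (r ∣_ dplus hY p chart s) ↔ ∃ hA : IsAffineOpen (xt u n s),
      Function.Surjective (Away.map (ψT u hY hA) s) := by
  constructor
  · intro h
    have hA := isAffineOpen_xt hLq hj hL u hP hPL hr hY hn hs inferInstance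
    refine ⟨hA, ?_⟩
    haveI := (restrict_dplus_iff hLq hj hL u hP hPL hr hY hn hs hA @IsClosedImmersion).1 h
    exact surjective_of_isClosedImmersion_spec (CommRingCat.ofHom (Away.map (ψT u hY hA) s))
  · rintro ⟨hA, h⟩
    exact (restrict_dplus_iff hLq hj hL u hP hPL hr hY hn hs hA @IsClosedImmersion).2
      (IsClosedImmersion.spec_of_surjective _ h)

include hLq hj hL hPL hP hr in
/-- The restriction is an isomorphism exactly when the map of rings is bijective. -/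
theorem affine_and_bijective {n : ℕ} (hn : 0 < n) {s : 𝒮.presheaf.obj (op ⊤)}
    (hs : s ∈ 𝒮.deg ⊤ hY n) :
    IsIso (r ∣_ dplus hY p chart s) ↔ ∃ hA : IsAffineOpen (xt u n s),
      Function.Bijective (Away.map (ψT u hY hA) s) := by
  constructor
  · intro h
    have hA := isAffineOpen_xt hLq hj hL u hP hPL hr hY hn hs inferInstance
    refine ⟨hA, ?_⟩
    haveI : IsIso (Spec.map (CommRingCat.ofHom (Away.map (ψT u hY hA) s))) :=
      (restrict_dplus_iff hLq hj hL u hP hPL hr hY hn hs hA (MorphismProperty.isomorphisms _)).1 h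
    exact bijective_of_isIso_spec (CommRingCat.ofHom (Away.map (ψT u hY hA) s))
  · rintro ⟨hA, h⟩
    haveI : IsIso (CommRingCat.ofHom (Away.map (ψT u hY hA) s)) :=
      (ConcreteCategory.isIso_iff_bijective _).2 h
    exact (restrict_dplus_iff hLq hj hL u hP hPL hr hY hn hs hA (MorphismProperty.isomorphisms _)).2
      (inferInstanceAs (IsIso (Spec.map (CommRingCat.ofHom (Away.map (ψT u hY hA) s)))))

include hLq hj hL hPL hP hr in
/-- A family of sections with affine loci covering `X` puts the image in the union of their standard opens. -/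
theorem domQ_eq_top_and_range {ι : Type u} {n : ι → ℕ} {s : ι → 𝒮.presheaf.obj (op ⊤)}
    (hns : ∀ a, 0 < n a ∧ s a ∈ 𝒮.deg ⊤ hY (n a)) (hcov : (⨆ a, xt u (n a) (s a)) = ⊤) :
    RelProj.domQ u pL chartL = ⊤ ∧ Set.range r ⊆ ((⨆ a, dplus hY p chart (s a) : P.Opens) : Set P) := by
  refine ⟨top_le_iff.1 fun z _ => ?_, ?_⟩
  · obtain ⟨a, ha⟩ := Opens.mem_iSup.1 (hcov.ge (Set.mem_univ (pL z)))
    exact (mem_domQ_iff hLq hj hL hPL u hY hP).2 ⟨n a, (hns a).1, s a, (hns a).2, ha⟩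
  · rintro _ ⟨z, rfl⟩
    obtain ⟨a, ha⟩ := Opens.mem_iSup.1 (hcov.ge (Set.mem_univ (pL z.1)))
    exact Opens.mem_iSup.2
      ⟨a, (mem_preimage_iff hLq hj hL hPL u hY hP hr (hns a).1 (hns a).2 z).2 ha⟩

include hLq hj hL hPL hP hr in
/-- The sections whose standard opens lie in an open containing the image form a covering family. -/
theorem exists_family (O : P.Opens) (hO : Set.range r ⊆ O) (hdom : RelProj.domQ u pL chartL = ⊤) :
    ∃ (ι : Type u) (n : ι → ℕ) (s : ι → 𝒮.presheaf.obj (op ⊤)),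
      (∀ a, 0 < n a ∧ s a ∈ 𝒮.deg ⊤ hY (n a)) ∧ (∀ a, dplus hY p chart (s a) ≤ O) ∧
        (⨆ a, xt u (n a) (s a)) = ⊤ ∧ O ≤ ⨆ a, dplus hY p chart (s a) := by
  haveI := isIso_pL hLq hj hL hPL
  let ι := {a : ULift.{u} ℕ × 𝒮.presheaf.obj (op ⊤) //
    0 < a.1.down ∧ a.2 ∈ 𝒮.deg ⊤ hY a.1.down ∧ dplus hY p chart a.2 ≤ O}
  have hle : O ≤ ⨆ a : ι, dplus hY p chart a.1.2 := fun y hy => by
    obtain ⟨w, rfl⟩ : y ∈ Set.range (RelProj.emb p chart ⊤ hY) := by
      rw [RelProj11.range_emb (𝒮' := 𝒮) p chart ⊤ hY]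
      exact trivial
    obtain ⟨n, hn, f, hf, hwf, hfO⟩ :=
      exists_basicOpen_le_proj (𝒮.deg ⊤ hY) (O := RelProj.emb p chart ⊤ hY ⁻¹ᵁ O) (w := w) hy
    refine Opens.mem_iSup.2 ⟨⟨(⟨n⟩, f), hn, hf, ?_⟩, ⟨w, hwf, rfl⟩⟩
    rintro _ ⟨v, hv, rfl⟩
    exact hfO hv
  refine ⟨ι, fun a => a.1.1.down, fun a => a.1.2, fun a => ⟨a.2.1, a.2.2.1⟩, fun a => a.2.2.2, ?_, hle⟩
  refine top_le_iff.1 fun x _ => ?_
  obtain ⟨z, rfl⟩ := pL.surjective x
  obtain ⟨a, ha⟩ := Opens.mem_iSup.1 (hle (hO ⟨⟨z, hdom.ge (Set.mem_univ z)⟩, rfl⟩))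
  exact Opens.mem_iSup.2
    ⟨a, (mem_preimage_iff hLq hj hL hPL u hY hP hr a.2.1 a.2.2.1 _).1 ha⟩

/-- A map landing in a union of opens, factored through it, has a property local at the target if its restrictions do. -/
theorem lift_of_forall {A B : Scheme.{u}} (r : A ⟶ B) {ι : Type u} (D : ι → B.Opens)
    (hrange : Set.range r ⊆ ((⨆ a, D a : B.Opens) : Set B))
    (Q : MorphismProperty Scheme.{u}) [IsZariskiLocalAtTarget Q] (h : ∀ a, Q (r ∣_ D a)) :
    ∃ r' : A ⟶ (⨆ a, D a : B.Opens).toScheme, r' ≫ (⨆ a, D a : B.Opens).ι = r ∧ Q r' := by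
  refine ⟨IsOpenImmersion.lift (⨆ a, D a : B.Opens).ι r (by rw [Scheme.Opens.range_ι]; exact hrange),
    IsOpenImmersion.lift_fac _ _ _, ?_⟩
  refine (IsZariskiLocalAtTarget.iff_of_iSup_eq_top (P := Q)
    (fun a => (⨆ a, D a : B.Opens).ι ⁻¹ᵁ D a) ?_).2 fun a => ?_
  · exact top_le_iff.1 fun x _ => by
      obtain ⟨a, ha⟩ := Opens.mem_iSup.1 x.2
      exact Opens.mem_iSup.2 ⟨a, ha⟩
  · exact (restrict_comp_ι_iff _ r (IsOpenImmersion.lift_fac _ _ _) (le_iSup D a) Q).2 (h a)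

end Groth.Agent.SymAlg11
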