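import Groth.Agent.Lib.SymAlg11.LineImm
import Groth.Agent.Lib.SymAlg11.LinePow
import Groth.Agent.Lib.SymAlg11.LineSections

/-!
The morphism attached to an ample invertible module and all the sections of its powers.
-/

universe u

open CategoryTheory CategoryTheory.Limits AlgebraicGeometry TopologicalSpace Opposite HomogeneousLocalization
open scoped HomogeneousIdeal

set_option backward.isDefEq.respectTransparency false

noncomputable section

namespace Groth.Agent.SymAlg11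

variable {Y X P PL : Scheme.{u}} {f : X ⟶ Y} {L : X.Modules} {𝒜 : RelProj.QCGrAlg Y}
  {𝒮L : RelProj.QCGrAlg X} {j : L ⟶ 𝒮L.toModule}
  (hLq : Coh.IsQCoh L) (hj : RelProj.IsGrSymAlg L 𝒮L j) (hL : PicF.IsInvertible L)
  (u : RelProj.QGrHom f 𝒜 𝒮L)
  {p : P ⟶ Y}
  {chart : ∀ (U : Y.Opens) (hU : IsAffineOpen U), (((p ⁻¹ᵁ U : P.Opens) : Scheme.{u}) ≅ Proj (𝒜.deg U hU))}
  (hP : RelProj.IsRelProj 𝒜 p chart)
  {pL : PL ⟶ X}
  {chartL : ∀ (U : X.Opens) (hU : IsAffineOpen U), (((pL ⁻¹ᵁ U : PL.Opens) : Scheme.{u}) ≅ Proj (𝒮L.deg U hU))}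
  (hPL : RelProj.IsRelProj 𝒮L pL chartL)
  {r : (RelProj.domQ u pL chartL).toScheme ⟶ P}
  (hr : RelProj.IsProjQMapOn u p chart pL chartL (RelProj.domQ u pL chartL) r)
  {U : Y.Opens} (hU : IsAffineOpen U) (hbij : Function.Bijective (u.app U).hom)

theorem isHom_app {n : ℕ} {s : 𝒜.presheaf.obj (op U)} (hs : s ∈ 𝒜.deg U hU n) :
    IsHom 𝒮L (f ⁻¹ᵁ U) n ((u.app U).hom s) := fun V hV h => u.map_mem U hU V hV h hs

include hbij in
/-- Homogeneous sections come from homogeneous elements. -/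
theorem exists_mem_of_isHom {n : ℕ} {c : 𝒮L.presheaf.obj (op (f ⁻¹ᵁ U))} (hc : IsHom 𝒮L (f ⁻¹ᵁ U) n c) :
    ∃ s ∈ 𝒜.deg U hU n, (u.app U).hom s = c := by
  classical
  obtain ⟨s, hs⟩ := hbij.2 c
  refine ⟨(DirectSum.decompose (𝒜.deg U hU) s n).1, SetLike.coe_mem _, eq_of_locally fun x hx => ?_⟩
  obtain ⟨V, hV, hxV, hle⟩ := exists_isAffineOpen_mem_and_subset hx
  refine ⟨V, hle, hxV, ?_⟩
  show u.gradedAt U hU V hV hle (DirectSum.decompose (𝒜.deg U hU) s n).1 = _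
  rw [GradedRingHom.map_directSumDecompose (𝒜 := 𝒜.deg U hU) (ℬ := 𝒮L.deg V hV)
    (u.gradedAt U hU V hV hle) (x := s) (i := n)]
  have h1 : u.gradedAt U hU V hV hle s = gres 𝒮L hle c := congrArg (gres 𝒮L hle) hs
  rw [h1]
  exact DirectSum.decompose_of_mem_same (𝒮L.deg V hV) (hc V hV hle)

variable {n : ℕ} (hn : 0 < n) {s : 𝒜.presheaf.obj (op U)} (hs : s ∈ 𝒜.deg U hU n)

/-- The locus where the image of a section generates. -/
abbrev locU (n : ℕ) (s : 𝒜.presheaf.obj (op U)) : X.Opens := nv 𝒮L (f ⁻¹ᵁ U) n ((u.app U).hom s)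

variable (hA : IsAffineOpen (locU u n s))

/-- The chart index of a section with affine locus. -/
abbrev idxU : RelProj11.QIdx (g := f) (𝒮 := 𝒜) :=
  ⟨U, hU, locU u n s, hA, nv_le _ _ _, n, hn, s, hs⟩

/-- The graded map to the sections over the locus. -/
abbrev ψU : 𝒜.deg U hU →+*ᵍ 𝒮L.deg (locU u n s) hA :=
  u.gradedAt U hU (locU u n s) hA (nv_le _ _ _)

/-- Functions as fractions with denominator the image of the section. -/
abbrev sigmaU : Γ(X, locU u n s) →+* Away (𝒮L.deg (locU u n s) hA) (ψU u hU hA s) :=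
  (fromZeroRingHom (𝒮L.deg (locU u n s) hA) (Submonoid.powers (ψU u hU hA s))).comp
    (𝒮L.strZero (locU u n s) hA).hom

include hLq hj hL hPL hn hs in
theorem mem_range_idxU_iff (z : PL) :
    z ∈ Set.range (RelProj11.qC u pL chartL (idxU u hU hn hs hA)) ↔ pL z ∈ locU u n s := by
  rw [mem_range_qC_iff hLq hj hL hPL u]
  change pL z ∈ nv 𝒮L (locU u n s) n (gres 𝒮L (nv_le _ _ _) ((u.app U).hom s)) ↔ _
  exact ⟨fun h => nv_le _ _ _ h, fun h => (mem_nv_res hLq hj hL (isHom_app u hU hs) _ h).2 h⟩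

include hLq hj hL hPL hn hs in
theorem bijective_sigmaU : Function.Bijective (sigmaU u hU hA) := by
  haveI := isIso_pL hLq hj hL hPL
  let g := RelProj11.qC u pL chartL (idxU u hU hn hs hA) ≫ pL
  have e : g = Spec.map (CommRingCat.ofHom (sigmaU u hU hA)) ≫ hA.fromSpec := by
    change (RelProj.awayEmb _ _ _ _ _ _ _ _ _ _ _) ≫ pL = _
    rw [RelProj.awayEmb, Category.assoc, emb_comp hPL, toBaseAff, Category.assoc,
      Proj.awayι_toSpecZero_assoc, ← Spec.map_comp_assoc]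
    rfl
  haveI : IsOpenImmersion (Spec.map (CommRingCat.ofHom (sigmaU u hU hA)) ≫ hA.fromSpec) := e ▸ inferInstance
  haveI : IsOpenImmersion (Spec.map (CommRingCat.ofHom (sigmaU u hU hA))) :=
    IsOpenImmersion.of_comp _ hA.fromSpec
  have hsurj : Surjective (Spec.map (CommRingCat.ofHom (sigmaU u hU hA))) := by
    refine ⟨fun y => ?_⟩
    have hx : hA.fromSpec y ∈ locU u n s := hA.opensRange_fromSpec.le ⟨y, rfl⟩
    obtain ⟨z, hz⟩ := pL.surjective (hA.fromSpec y)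
    obtain ⟨w, hw⟩ := (mem_range_idxU_iff hLq hj hL u hPL hU hn hs hA z).2 (hz ▸ hx)
    refine ⟨w, hA.fromSpec.isOpenEmbedding.injective ?_⟩
    have h' : g w = hA.fromSpec (Spec.map (CommRingCat.ofHom (sigmaU u hU hA)) w) := by
      rw [e]; rfl
    rw [← h', ← hz, ← hw]
    rfl
  haveI : IsIso (Spec.map (CommRingCat.ofHom (sigmaU u hU hA))) :=
    (isIso_iff_isOpenImmersion_and_surjective _).2 ⟨inferInstance, hsurj⟩
  exact bijective_of_isIso_spec (CommRingCat.ofHom (sigmaU u hU hA))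

include hLq hj hL hPL hbij hn hs in
theorem bijective_away (hW : IsCompact (f ⁻¹ᵁ U : Set X)) (hWq : IsQuasiSeparated (f ⁻¹ᵁ U : Set X)) :
    Function.Bijective (Away.map (ψU u hU hA) s) := by
  let W := f ⁻¹ᵁ U
  let c := (u.app U).hom s
  have hc : IsHom 𝒮L W n c := isHom_app u hU hs
  constructor
  · rw [injective_iff_map_eq_zero]
    intro z hz
    obtain ⟨m, s', hs', rfl⟩ := Away.mk_surjective (𝒜.deg U hU) hs z
    rw [Away.map_mk] at hz
    obtain ⟨i, hi⟩ := (RelProj11.away_mk_eq_zero_iff _ _).1 hz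
    have hd : IsHom 𝒮L W (i * n + m * n) (c ^ i * (u.app U).hom s') :=
      (hc.pow i).mul (isHom_app u hU (by simpa using hs'))
    obtain ⟨k, hk⟩ := exists_pow_kill hLq hj hL hW hc hd (by rw [map_mul, map_pow]; exact hi)
    refine (RelProj11.away_mk_eq_zero_iff _ _).2 ⟨k + i, hbij.1 ?_⟩
    rw [map_mul, map_pow, map_zero, pow_add, mul_assoc]
    exact hk
  · intro z
    obtain ⟨t, rfl⟩ := (bijective_sigmaU hLq hj hL u hPL hU hn hs hA).2 z
    obtain ⟨k, d, hd, hdt⟩ := exists_pow_extend hLq hj hL hW hWq hc t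
    obtain ⟨s', hs', rfl⟩ := exists_mem_of_isHom u hU hbij hd
    refine ⟨Away.mk (𝒜.deg U hU) hs k s' (by simpa using hs'), ?_⟩
    rw [Away.map_mk]
    apply HomogeneousLocalization.val_injective
    rw [Away.val_mk]
    change _ = Localization.mk ((𝒮L.str.app (op (locU u n s))).hom t) 1
    rw [Localization.mk_eq_mk_iff, Localization.r_iff_exists]
    refine ⟨1, ?_⟩
    simp only [OneMemClass.coe_one, one_mul]
    exact hdt.trans (mul_comm _ _)

include hLq hj hL hPL hP hr hn hs in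
/-- The inverse image of a standard open. -/
theorem mem_preimage_iff' (z : (RelProj.domQ u pL chartL).toScheme) :
    r z ∈ RelProj.emb p chart U hU ''ᵁ Proj.basicOpen (𝒜.deg U hU) s ↔ pL z.1 ∈ locU u n s := by
  have key : ∀ hzU : pL z.1 ∈ f ⁻¹ᵁ U,
      r z ∈ RelProj.emb p chart U hU ''ᵁ Proj.basicOpen (𝒜.deg U hU) s ↔ pL z.1 ∈ locU u n s := fun hzU => by
    obtain ⟨V, hV, hzV, hVle⟩ := exists_isAffineOpen_mem_and_subset hzU
    rw [RelProj11.mem_preimage_emb_basicOpen_iff hP hPL hr ⟨U, hU, V, hV, hVle, n, hn, s, hs⟩ z hzV,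
      mem_range_qC_iff hLq hj hL hPL u]
    change pL z.1 ∈ nv 𝒮L V n (gres 𝒮L hVle ((u.app U).hom s)) ↔ _
    exact mem_nv_res hLq hj hL (isHom_app u hU hs) _ hzV
  refine ⟨fun h => (key ?_).1 h, fun h => (key (nv_le _ _ _ h)).2 h⟩
  have h1 : p (r z) ∈ U := by
    obtain ⟨w, -, hw⟩ := h
    rw [← hw]
    exact ((chart U hU).inv w).2
  rw [← Scheme.Hom.comp_apply, RelProj11.qMapOn_comp hP hPL hr] at h1
  exact h1

include hLq hj hL hPL hP hr hn hs hbij in
/-- Over a standard open with affine locus the morphism is an isomorphism. -/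
theorem isIso_restrict_dplus (hA : IsAffineOpen (locU u n s)) (hW : IsCompact (f ⁻¹ᵁ U : Set X))
    (hWq : IsQuasiSeparated (f ⁻¹ᵁ U : Set X)) :
    IsIso (r ∣_ (RelProj.emb p chart U hU ''ᵁ Proj.basicOpen (𝒜.deg U hU) s)) := by
  let ε := Proj.awayι (𝒜.deg U hU) s hs hn ≫ RelProj.emb p chart U hU
  have hε : ε.opensRange = RelProj.emb p chart U hU ''ᵁ Proj.basicOpen (𝒜.deg U hU) s := by
    rw [Scheme.Hom.opensRange_comp, Proj.opensRange_awayι]
  have H : IsPullback (Spec.map (CommRingCat.ofHom (Away.map (ψU u hU hA) s)))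
      (IsOpenImmersion.lift (RelProj.domQ u pL chartL).ι
        (RelProj11.qC u pL chartL (idxU u hU hn hs hA)) (RelProj11.range_qC_subset _)) ε r := by
    refine IsOpenImmersion.isPullback _ _ ε r ?_ ?_
    · exact RelProj11.lift_qC_comp hr (idxU u hU hn hs hA)
    · rw [hε]
      refine SetLike.ext fun z => ?_
      refine Iff.trans (mem_preimage_iff' hLq hj hL u hP hPL hr hU hn hs z) ⟨fun h => ?_, ?_⟩
      · obtain ⟨w, hw⟩ := (mem_range_idxU_iff hLq hj hL u hPL hU hn hs hA z.1).2 h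
        refine ⟨w, (RelProj.domQ u pL chartL).ι.isOpenEmbedding.injective ?_⟩
        rw [← Scheme.Hom.comp_apply, IsOpenImmersion.lift_fac]
        exact hw
      · rintro ⟨w, rfl⟩
        refine (mem_range_idxU_iff hLq hj hL u hPL hU hn hs hA _).1 ⟨w, ?_⟩
        rw [← Scheme.Opens.ι_apply, ← Scheme.Hom.comp_apply, IsOpenImmersion.lift_fac]
        rfl
  haveI : IsIso (CommRingCat.ofHom (Away.map (ψU u hU hA) s)) :=
    (ConcreteCategory.isIso_iff_bijective _).2 (bijective_away hLq hj hL u hPL hU hbij hn hs hA hW hWq)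
  have h1 := (MorphismProperty.isomorphisms Scheme.{u}).arrow_mk_iso_iff (morphismRestrictOpensRange r ε)
  rw [hε] at h1
  refine h1.2 ?_
  rw [← H.flip.isoPullback_inv_snd]
  change IsIso _
  infer_instance

section global

variable (hu : ∀ (U : Y.Opens), IsAffineOpen U → Function.Bijective (u.app U).hom)

include hLq hj hL hPL hP hr hu in
/-- With all the sections of an ample module the morphism is an everywhere defined open immersion with
dense image. -/
theorem isOpenImmersion_isDominant (h : RelAmple.IsRelAmple f L) :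
    RelProj.domQ u pL chartL = ⊤ ∧ IsOpenImmersion r ∧ IsDominant r := by
  haveI := isIso_pL hLq hj hL hPL
  have hW : ∀ (U : Y.Opens), IsAffineOpen U →
      IsCompact (f ⁻¹ᵁ U : Set X) ∧ IsQuasiSeparated (f ⁻¹ᵁ U : Set X) := fun U hU => by
    have ha := h.2 ⟨U, hU⟩
    exact ⟨isCompact_iff_compactSpace.2 ha.2.1,
      (isQuasiSeparated_iff_quasiSeparatedSpace _ (f ⁻¹ᵁ U).2).2 (Amp.quasiSeparatedSpace_of_isAmple ha)⟩
  have hcov : ∀ x : X, ∃ (U : Y.Opens) (hU : IsAffineOpen U) (n : ℕ) (_ : 0 < n) (s : 𝒜.presheaf.obj (op U))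
      (_ : s ∈ 𝒜.deg U hU n) (_ : IsAffineOpen (locU u n s)), x ∈ locU u n s := by
    intro x
    obtain ⟨U, hU, hxU, -⟩ := exists_isAffineOpen_mem_and_subset (U := (⊤ : Y.Opens)) (x := f x) trivial
    obtain ⟨m, G, hG, hxG, hGA⟩ := (Amp.isAmple_iff.1 (h.2 ⟨U, hU⟩)).2.2 ⟨x, hxU⟩
    obtain ⟨c, hc, hcG⟩ := exists_sec_of_hasSec hLq hj hL (f ⁻¹ᵁ U) hG
    obtain ⟨s, hs, rfl⟩ := exists_mem_of_isHom u hU (hu U hU) hc
    refine ⟨U, hU, m + 1, Nat.succ_pos _, s, hs, ?_, ?_⟩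
    · change IsAffineOpen (nv _ _ _ _)
      rw [hcG]
      exact hGA.image_of_isOpenImmersion _
    · change x ∈ nv _ _ _ _
      rw [hcG]
      exact ⟨_, hxG, rfl⟩
  choose U hU n hn s hs hA hx using hcov
  let D : X → P.Opens := fun x => RelProj.emb p chart (U x) (hU x) ''ᵁ Proj.basicOpen (𝒜.deg (U x) (hU x)) (s x)
  have htop : RelProj.domQ u pL chartL = ⊤ := by
    refine top_le_iff.1 fun z _ => ?_
    have := RelProj11.range_qC_subset _
      ((mem_range_idxU_iff hLq hj hL u hPL (hU (pL z)) (hn _) (hs _) (hA _) z).2 (hx (pL z)))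
    rwa [Scheme.Opens.range_ι] at this
  refine ⟨htop, ?_, ⟨dense_iff_inter_open.2 fun O hO hne => ?_⟩⟩
  · have hrange : Set.range r ⊆ ((⨆ x, D x : P.Opens) : Set P) := by
      rintro _ ⟨z, rfl⟩
      exact Opens.mem_iSup.2 ⟨pL z.1,
        (mem_preimage_iff' hLq hj hL u hP hPL hr (hU _) (hn _) (hs _) z).2 (hx _)⟩
    obtain ⟨r', hr', hiso⟩ := lift_of_forall r D hrange (MorphismProperty.isomorphisms Scheme.{u}) fun x =>
      isIso_restrict_dplus hLq hj hL u hP hPL hr (hU x) (hu _ (hU x)) (hn x) (hs x) (hA x)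
        (hW _ (hU x)).1 (hW _ (hU x)).2
    haveI : IsIso r' := hiso
    rw [← hr']
    infer_instance
  · obtain ⟨y, hy⟩ := hne
    obtain ⟨U', hU', hyU, -⟩ := exists_isAffineOpen_mem_and_subset (U := (⊤ : Y.Opens)) (x := p y) trivial
    obtain ⟨w, rfl⟩ : y ∈ Set.range (RelProj.emb p chart U' hU') := by
      rw [RelProj11.range_emb (𝒮' := 𝒜) p chart U' hU']
      exact hyU
    obtain ⟨m, hm, t, ht, hwt, htO⟩ := exists_basicOpen_le_proj (𝒜.deg U' hU')
      (O := RelProj.emb p chart U' hU' ⁻¹ᵁ ⟨O, hO⟩) (w := w) hy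
    obtain ⟨x, hx'⟩ : ∃ x, x ∈ locU u m t := by
      by_contra hcon
      push Not at hcon
      have h0 : gres 𝒮L (nv_le (f ⁻¹ᵁ U') m ((u.app U').hom t))
          (1 : 𝒮L.presheaf.obj (op (f ⁻¹ᵁ U'))) = 0 :=
        eq_of_locally fun z hz => absurd hz (hcon z)
      obtain ⟨k, hk⟩ := exists_pow_kill hLq hj hL (hW U' hU').1 (isHom_app u hU' ht) isHom_one h0
      rw [mul_one, ← map_pow, ← map_zero (u.app U').hom] at hk
      have h1 := (ProjectiveSpectrum.mem_basicOpen _ _ _).1 hwt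
      refine h1 (w.isPrime.mem_of_pow_mem k ?_)
      rw [(hu U' hU').1 hk]
      exact zero_mem _
    obtain ⟨z, rfl⟩ := pL.surjective x
    have hz : z ∈ RelProj.domQ u pL chartL := htop.ge trivial
    obtain ⟨v, hv, hve⟩ := (mem_preimage_iff' hLq hj hL u hP hPL hr hU' hm ht ⟨z, hz⟩).2 hx'
    exact ⟨r ⟨z, hz⟩, hve ▸ htO hv, ⟨_, rfl⟩⟩

include hLq hj hL hPL hP hr in
/-- An everywhere defined morphism which is an embedding makes the module ample. -/
theorem isRelAmple_of_isEmbedding [QuasiCompact f] (htop : RelProj.domQ u pL chartL = ⊤)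
    (hemb : Topology.IsEmbedding r.base) : RelAmple.IsRelAmple f L := by
  haveI := isIso_pL hLq hj hL hPL
  refine ⟨inferInstance, fun U => ?_⟩
  obtain ⟨U, hU⟩ := U
  haveI : CompactSpace (f ⁻¹ᵁ U).toScheme :=
    isCompact_iff_compactSpace.1 (f.isCompact_preimage hU.isCompact)
  refine Amp.isAmple_of_basis (M2.isInvertible_of_iso
    ((Scheme.Modules.restrictFunctorIsoPullback (f ⁻¹ᵁ U).ι).app L).symm
      (PicLoc.isInvertible_pullback _ hL)) fun x V hxV => ?_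
  obtain ⟨z, hz⟩ := pL.surjective x.1
  have hzd : z ∈ RelProj.domQ u pL chartL := htop.ge trivial
  obtain ⟨T, hT, hTe⟩ := hemb.isInducing.isOpen_iff.1
    ((RelProj.domQ u pL chartL).ι ⁻¹ᵁ (pL ⁻¹ᵁ ((f ⁻¹ᵁ U).ι ''ᵁ V))).2
  have hzT : r ⟨z, hzd⟩ ∈ T := by
    show (⟨z, hzd⟩ : (RelProj.domQ u pL chartL).toScheme) ∈ r.base ⁻¹' T
    rw [hTe]
    exact ⟨x, hxV, hz.symm⟩
  obtain ⟨w, hw⟩ : r ⟨z, hzd⟩ ∈ Set.range (RelProj.emb p chart U hU) := by
    rw [RelProj11.range_emb (𝒮' := 𝒜) p chart U hU]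
    show p (r ⟨z, hzd⟩) ∈ U
    rw [← Scheme.Hom.comp_apply, RelProj11.qMapOn_comp hP hPL hr]
    show f (pL z) ∈ U
    rw [hz]
    exact x.2
  obtain ⟨m, hm, t, ht, hwt, htO⟩ := exists_basicOpen_le_proj (𝒜.deg U hU)
    (O := RelProj.emb p chart U hU ⁻¹ᵁ ⟨T, hT⟩) (w := w) (show RelProj.emb p chart U hU w ∈ T from hw ▸ hzT)
  have hx : pL z ∈ locU u m t :=
    (mem_preimage_iff' hLq hj hL u hP hPL hr hU hm ht ⟨z, hzd⟩).1 ⟨w, hwt, hw⟩
  obtain ⟨k, rfl⟩ := Nat.exists_eq_succ_of_ne_zero hm.ne'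
  refine ⟨k, (f ⁻¹ᵁ U).ι ⁻¹ᵁ locU u (k + 1) t, hasSec_of_isHom hLq hj hL _ (isHom_app u hU ht),
    show x.1 ∈ locU u (k + 1) t from hz ▸ hx, fun y hy => ?_⟩
  obtain ⟨z', hz'⟩ := pL.surjective y.1
  have hzd' : z' ∈ RelProj.domQ u pL chartL := htop.ge trivial
  obtain ⟨v, hv, hve⟩ :=
    (mem_preimage_iff' hLq hj hL u hP hPL hr hU hm ht ⟨z', hzd'⟩).2 (hz' ▸ hy)
  have h2 : (⟨z', hzd'⟩ : (RelProj.domQ u pL chartL).toScheme) ∈ r.base ⁻¹' T := by
    show r ⟨z', hzd'⟩ ∈ T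
    rw [← hve]
    exact htO hv
  rw [hTe] at h2
  obtain ⟨y', hy', hye⟩ := h2
  exact (Subtype.ext (hye.trans hz') : y' = y) ▸ hy'

end global

end Groth.Agent.SymAlg11
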