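import Groth.Agent.Lib.SymAlg11.LineAmple
import Groth.Agent.Lib.RelAmple18.Basic
import Groth.Agent.Lib.RelProj11.Basic

/-!
The morphism attached to an ample invertible module over an affine base is scheme-theoretically dominant.
-/

universe u

open CategoryTheory CategoryTheory.Limits AlgebraicGeometry TopologicalSpace Opposite HomogeneousLocalization
open scoped HomogeneousIdeal

set_option backward.isDefEq.respectTransparency false

noncomputable section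

namespace Groth.Agent.SymAlg11

theorem appLE_range_injective {B : Scheme.{u}} {R : CommRingCat.{u}} (ε : Spec R ⟶ B) [IsOpenImmersion ε]
    (h : (⊤ : (Spec R).Opens) ≤ ε ⁻¹ᵁ ε.opensRange) :
    Function.Injective (ε.appLE ε.opensRange ⊤ h) := by
  haveI := ε.isIso_app ε.opensRange le_rfl
  haveI : IsIso (homOfLE h).op := by
    have : IsIso (homOfLE h) := ⟨homOfLE le_top, rfl, rfl⟩
    infer_instance
  exact (ConcreteCategory.bijective_of_isIso
    (ε.app ε.opensRange ≫ (Spec R).presheaf.map (homOfLE h).op)).1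

/-- A function killed by a morphism is killed along every chart lifting to it. -/
theorem map_eq_zero_of_app_eq_zero {A B : Scheme.{u}} (r : A ⟶ B) {R S : CommRingCat.{u}} (φ : R ⟶ S)
    (ε : Spec R ⟶ B) [IsOpenImmersion ε] (l : Spec S ⟶ A) (e : l ≫ r = Spec.map φ ≫ ε)
    (h : (⊤ : (Spec R).Opens) ≤ ε ⁻¹ᵁ ε.opensRange) (g : Γ(B, ε.opensRange)) (hg : r.app ε.opensRange g = 0) :
    φ ((Scheme.ΓSpecIso R).hom (ε.appLE ε.opensRange ⊤ h g)) = 0 := by
  have h2 : (⊤ : (Spec S).Opens) ≤ (Spec.map φ ≫ ε) ⁻¹ᵁ ε.opensRange := fun x _ => h (Set.mem_univ (Spec.map φ x))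
  have h1 : (⊤ : (Spec S).Opens) ≤ l ⁻¹ᵁ (r ⁻¹ᵁ ε.opensRange) := by
    rw [← Scheme.Hom.comp_preimage, e]
    exact h2
  have e1 : (Spec.map φ ≫ ε).appLE ε.opensRange ⊤ h2 g = 0 := by
    have key : ∀ (m : Spec S ⟶ B) (hm : (⊤ : (Spec S).Opens) ≤ m ⁻¹ᵁ ε.opensRange), l ≫ r = m →
        m.appLE ε.opensRange ⊤ hm g = 0 := by
      rintro _ hm rfl
      rw [← Scheme.Hom.appLE_comp_appLE l r ε.opensRange (r ⁻¹ᵁ ε.opensRange) ⊤ le_rfl h1,
        ConcreteCategory.comp_apply, Scheme.Hom.appLE_eq_app, hg, map_zero]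
    exact key _ h2 e
  rw [← Scheme.Hom.appLE_comp_appLE (Spec.map φ) ε ε.opensRange ⊤ ⊤ h le_top, ConcreteCategory.comp_apply] at e1
  refine Eq.trans (ConcreteCategory.congr_hom (Scheme.ΓSpecIso_naturality φ) _).symm ?_
  rw [ConcreteCategory.comp_apply]
  refine Eq.trans (congrArg _ ?_) (map_zero _)
  rw [← e1, Scheme.Hom.appTop]
  exact (ConcreteCategory.congr_hom (Scheme.Hom.appLE_eq_app (Spec.map φ)) _).symm

variable {Y X P PL : Scheme.{u}} {f : X ⟶ Y} {L : X.Modules} {𝒜 : RelProj.QCGrAlg Y}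
  {𝒮L : RelProj.QCGrAlg X} {j : L ⟶ 𝒮L.toModule}
  (hLq : Coh.IsQCoh L) (hj : RelProj.IsGrSymAlg L 𝒮L j) (hL : PicF.IsInvertible L)
  (u : RelProj.QGrHom f 𝒜 𝒮L)
  {p : P ⟶ Y}
  {chart : ∀ (U : Y.Opens) (hU : IsAffineOpen U), (((p ⁻¹ᵁ U : P.Opens) : Scheme.{u}) ≅ Proj (𝒜.deg U hU))}
  (hP : RelProj.IsRelProj 𝒜 p chart)
  {pL : PL ⟶ X}
  {chartL : ∀ (U : X.Opens) (hU : IsAffineOpen U), (((pL ⁻¹ᵁ U : PL.Opens) : Scheme.{u}) ≅ Proj (𝒮L.deg U hU))}
  (hPL : RelProj.IsRelProj 𝒮L pL chartL)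
  {r : (RelProj.domQ u pL chartL).toScheme ⟶ P}
  (hr : RelProj.IsProjQMapOn u p chart pL chartL (RelProj.domQ u pL chartL) r)
  (hY : IsAffineOpen (⊤ : Y.Opens))

set_option maxHeartbeats 1000000 in
include hLq hj hL hPL hP hr hY in
/-- No function on a standard open dies on its inverse image. -/
theorem ker_eq_bot_of_bijective [CompactSpace X] [QuasiCompact r] (hu : Function.Bijective (u.app ⊤).hom) :
    r.ker = ⊥ := by
  classical
  have hWc : IsCompact (f ⁻¹ᵁ (⊤ : Y.Opens) : Set X) := by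
    rw [Scheme.Hom.preimage_top f]; exact isCompact_univ
  let J := {a : ULift.{u} ℕ × 𝒜.presheaf.obj (op ⊤) // 0 < a.1.down ∧ a.2 ∈ 𝒜.deg ⊤ hY a.1.down}
  let ε : ∀ a : J, Spec (CommRingCat.of (Away (𝒜.deg ⊤ hY) a.1.2)) ⟶ P := fun a =>
    Proj.awayι (𝒜.deg ⊤ hY) a.1.2 a.2.2 a.2.1 ≫ RelProj.emb p chart ⊤ hY
  let E : J → P.affineOpens := fun a => ⟨(ε a).opensRange, isAffineOpen_opensRange _⟩
  refine Scheme.IdealSheafData.ext_of_iSup_eq_top E (top_le_iff.1 fun y _ => ?_) fun a => ?_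
  · obtain ⟨w, rfl⟩ : y ∈ Set.range (RelProj.emb p chart ⊤ hY) := by
      rw [RelProj11.range_emb (𝒮' := 𝒜) p chart ⊤ hY]
      exact trivial
    obtain ⟨m, hm, t, ht, hwt, -⟩ := exists_basicOpen_le_proj (𝒜.deg ⊤ hY) (O := ⊤) (w := w) trivial
    refine Opens.mem_iSup.2 ⟨⟨(⟨m⟩, t), hm, ht⟩, ?_⟩
    show _ ∈ (ε _).opensRange
    rw [Scheme.Hom.opensRange_comp, Proj.opensRange_awayι]
    exact ⟨w, hwt, rfl⟩
  obtain ⟨⟨⟨m⟩, t⟩, hm, ht⟩ := a
  rw [r.ker_apply]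
  refine Eq.trans ?_ (by simp : (⊥ : Ideal _) = (⊥ : P.IdealSheafData).ideal _)
  refine (RingHom.injective_iff_ker_eq_bot _).1 ((injective_iff_map_eq_zero _).2 fun g hg => ?_)
  let ε₀ := ε ⟨(⟨m⟩, t), hm, ht⟩
  have hε₀ : (⊤ : (Spec _).Opens) ≤ ε₀ ⁻¹ᵁ ε₀.opensRange := fun w _ => ⟨w, rfl⟩
  refine appLE_range_injective ε₀ hε₀ ?_
  rw [map_zero]
  refine (ConcreteCategory.bijective_of_isIso (Scheme.ΓSpecIso _).hom).1 ?_
  rw [map_zero]
  obtain ⟨k, s', hs', hz⟩ := Away.mk_surjective (𝒜.deg ⊤ hY) ht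
    ((Scheme.ΓSpecIso _).hom (ε₀.appLE ε₀.opensRange ⊤ hε₀ g))
  rw [← hz]
  let c := (u.app ⊤).hom t
  let d := (u.app ⊤).hom s'
  have hc : IsHom 𝒮L (f ⁻¹ᵁ ⊤) m c := isHom_app u hY ht
  have hd : IsHom 𝒮L (f ⁻¹ᵁ ⊤) (k * m) d := isHom_app u hY (by simpa using hs')
  have h0 : gres 𝒮L (nv_le (f ⁻¹ᵁ ⊤) m c) d = 0 := by
    refine eq_of_locally fun x hxN => ?_
    obtain ⟨V₁, hV₁, hV₁W, e, a, hxV, -, he, ha⟩ := exists_local hLq hj hL hc ⊤ trivial (nv_le _ _ _ hxN)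
    have hxa := (mem_nv_iff hLq hj hV₁ hV₁W he ha hxV).1 hxN
    let V := X.basicOpen a
    have hV : IsAffineOpen V := hV₁.basicOpen a
    have hVN : V ≤ nv 𝒮L (f ⁻¹ᵁ ⊤) m c := fun y hy =>
      (mem_nv_iff hLq hj hV₁ hV₁W he ha (X.basicOpen_le a hy)).2 hy
    have hVW : V ≤ f ⁻¹ᵁ ⊤ := hVN.trans (nv_le _ _ _)
    refine ⟨V, hVN, hxa, ?_⟩
    rw [map_zero, gres_gres]
    have e0 := map_eq_zero_of_app_eq_zero r
      (CommRingCat.ofHom (Away.map (u.gradedAt ⊤ hY V hV hVW) t)) ε₀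
      (IsOpenImmersion.lift (RelProj.domQ u pL chartL).ι
        (RelProj11.qC u pL chartL ⟨⊤, hY, V, hV, hVW, m, hm, t, ht⟩) (RelProj11.range_qC_subset _))
      (RelProj11.lift_qC_comp hr ⟨⊤, hY, V, hV, hVW, m, hm, t, ht⟩) hε₀ g hg
    rw [← hz] at e0
    change Away.map (u.gradedAt ⊤ hY V hV hVW) t (Away.mk (𝒜.deg ⊤ hY) ht k s' hs') = 0 at e0
    rw [Away.map_mk] at e0
    obtain ⟨i, hi⟩ := (RelProj11.away_mk_eq_zero_iff _ _).1 e0
    change gres 𝒮L hVW c ^ i * gres 𝒮L hVW d = 0 at hi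
    obtain ⟨b, hb⟩ := exists_eq_of_mem hLq hj hV (isGenerator_mres he (X.basicOpen_le a)) (hd V hV hVW)
    rw [hb] at hi ⊢
    rw [← gres_gres hV₁W (X.basicOpen_le a), ha, map_mul, map_pow, gres_tgen, gres_str, mul_pow, ← map_pow,
      ← pow_mul, mul_mul_mul_comm, ← map_mul, ← pow_add] at hi
    have h1 := str_mul_pow_inj hLq hj hV (isGenerator_mres he (X.basicOpen_le a)) (b := 0)
      (hi.trans (by rw [map_zero, zero_mul]))
    rw [((RingedSpace.isUnit_res_basicOpen X.toRingedSpace a).pow i).mul_right_eq_zero.1 h1, map_zero, zero_mul]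
  obtain ⟨i, hi⟩ := exists_pow_kill hLq hj hL hWc hc hd h0
  refine (RelProj11.away_mk_eq_zero_iff _ _).2 ⟨i, hu.1 ?_⟩
  rw [map_mul, map_pow, map_zero]
  exact hi

include hLq hj hL hPL hP hr hY in
/-- Over an affine base, with all the global sections of an ample module: a quasi-compact,
scheme-theoretically dominant open immersion. -/
theorem schemeDominant_of_isAmple [CompactSpace X] (hu : Function.Bijective (u.app ⊤).hom)
    (h : CohB1.IsAmple L) :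
    RelProj.domQ u pL chartL = ⊤ ∧ IsOpenImmersion r ∧ QuasiCompact r ∧ IsSchemeTheoreticallyDominant r := by
  classical
  haveI := isIso_pL hLq hj hL hPL
  haveI : QuasiSeparatedSpace X := Amp.quasiSeparatedSpace_of_isAmple h
  have hW : f ⁻¹ᵁ (⊤ : Y.Opens) = ⊤ := Scheme.Hom.preimage_top f
  have hWc : IsCompact (f ⁻¹ᵁ (⊤ : Y.Opens) : Set X) := by rw [hW]; exact isCompact_univ
  have hWq : IsQuasiSeparated (f ⁻¹ᵁ (⊤ : Y.Opens) : Set X) := by rw [hW]; exact isQuasiSeparated_univ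
  have hcov : ∀ x : X, ∃ (n : ℕ) (_ : 0 < n) (s : 𝒜.presheaf.obj (op ⊤))
      (_ : s ∈ 𝒜.deg ⊤ hY n) (_ : IsAffineOpen (locU u n s)), x ∈ locU u n s := by
    intro x
    have ha : CohB1.IsAmple (L.restrict (f ⁻¹ᵁ (⊤ : Y.Opens)).ι) := by
      rw [hW]; exact (RA.isAmple_iff_ampleOn_top).1 h
    obtain ⟨m, G, hG, hxG, hGA⟩ := (Amp.isAmple_iff.1 ha).2.2 ⟨x, by rw [hW]; trivial⟩
    obtain ⟨c, hc, hcG⟩ := exists_sec_of_hasSec hLq hj hL _ hG
    obtain ⟨s, hs, rfl⟩ := exists_mem_of_isHom u hY hu hc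
    refine ⟨m + 1, Nat.succ_pos _, s, hs, ?_, ?_⟩
    · change IsAffineOpen (nv _ _ _ _)
      rw [hcG]
      exact hGA.image_of_isOpenImmersion _
    · change x ∈ nv _ _ _ _
      rw [hcG]
      exact ⟨_, hxG, rfl⟩
  choose n hn s hs hA hx using hcov
  obtain ⟨T, hT⟩ := isCompact_univ.elim_finite_subcover (fun x : X => (locU u (n x) (s x) : Set X))
    (fun x => (locU u (n x) (s x)).2) fun x _ => Set.mem_iUnion.2 ⟨x, hx x⟩
  let D : {x // x ∈ T} → P.Opens := fun x => RelProj.emb p chart ⊤ hY ''ᵁ Proj.basicOpen (𝒜.deg ⊤ hY) (s x.1)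
  have hDa : ∀ x, IsAffineOpen (D x) := fun x =>
    (Proj.isAffineOpen_basicOpen _ _ (hs x.1) (hn x.1)).image_of_isOpenImmersion _
  have htop : RelProj.domQ u pL chartL = ⊤ := by
    refine top_le_iff.1 fun z _ => ?_
    have := RelProj11.range_qC_subset _
      ((mem_range_idxU_iff hLq hj hL u hPL hY (hn (pL z)) (hs _) (hA _) z).2 (hx (pL z)))
    rwa [Scheme.Opens.range_ι] at this
  have hrange : Set.range r ⊆ ((⨆ x, D x : P.Opens) : Set P) := by
    rintro _ ⟨z, rfl⟩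
    obtain ⟨y, hy, hyz⟩ := Set.mem_iUnion₂.1 (hT (Set.mem_univ (pL z.1)))
    exact Opens.mem_iSup.2 ⟨⟨y, hy⟩,
      (mem_preimage_iff' hLq hj hL u hP hPL hr hY (hn _) (hs _) z).2 hyz⟩
  obtain ⟨r', hr', hiso⟩ := lift_of_forall r D hrange (MorphismProperty.isomorphisms Scheme.{u}) fun x =>
    isIso_restrict_dplus hLq hj hL u hP hPL hr hY hu (hn x.1) (hs x.1) (hA x.1) hWc hWq
  haveI : IsIso r' := hiso
  have hopen : IsOpenImmersion r := by rw [← hr']; infer_instance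
  haveI : IsSeparated p := RelProj11.isSeparated hP
  haveI : IsAffine Y := ⟨IsAffine.affine (self := IsAffine.of_isIso (Scheme.topIso Y).inv (h := hY))⟩
  haveI hqc : QuasiCompact r := by
    haveI : QuasiSeparatedSpace P := quasiSeparatedSpace_of_quasiSeparated p
    haveI : QuasiCompact (⨆ x, D x : P.Opens).ι := by
      haveI : QuasiCompact ((⨆ x, D x : P.Opens).ι ≫ p) := ?_
      · exact QuasiCompact.of_comp (⨆ x, D x : P.Opens).ι p
      haveI : CompactSpace (⨆ x, D x : P.Opens).toScheme := isCompact_iff_compactSpace.1 (by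
        rw [Opens.coe_iSup]
        exact isCompact_iUnion fun x => (hDa x).isCompact)
      exact quasiCompact_of_compactSpace _
    rw [← hr']
    infer_instance
  exact ⟨htop, hopen, hqc, ⟨ker_eq_bot_of_bijective hLq hj hL u hP hPL hr hY hu⟩⟩

end Groth.Agent.SymAlg11
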