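import Groth.Agent.Lib.SymAlg11.Line

/-!
Dominance criteria.
-/

universe u

open CategoryTheory CategoryTheory.Limits AlgebraicGeometry TopologicalSpace Opposite HomogeneousLocalization
open scoped HomogeneousIdeal

set_option backward.isDefEq.respectTransparency false

noncomputable section

namespace Groth.Agent.SymAlg11

section graded

variable {A σ : Type u} [CommRing A] [SetLike σ A] [AddSubgroupClass σ A] (𝒜 : ℕ → σ) [GradedRing 𝒜]

theorem proj_basicOpen_eq_bot_iff {d : ℕ} (hd : 0 < d) {f : A} (hf : f ∈ 𝒜 d) :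
    Proj.basicOpen 𝒜 f = ⊥ ↔ IsNilpotent f := by
  constructor
  · intro h
    rw [← mem_nilradical, nilradical_eq_sInf, Ideal.mem_sInf]
    intro p hp
    by_contra hfp
    have hprime := Ideal.IsPrime.homogeneousCore (𝒜 := 𝒜) (h := hp)
    have hnot : f ∉ (p.homogeneousCore 𝒜).toIdeal :=
      fun h' => hfp (Ideal.toIdeal_homogeneousCore_le 𝒜 p h')
    let w : ProjectiveSpectrum 𝒜 := ⟨p.homogeneousCore 𝒜, hprime, fun h' =>
      hnot (h' (HomogeneousIdeal.mem_irrelevant_of_mem _ hd hf))⟩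
    exact (h.le (show w ∈ Proj.basicOpen 𝒜 f from (ProjectiveSpectrum.mem_basicOpen _ _ _).2 hnot)).elim
  · rintro ⟨k, hk⟩
    refine le_bot_iff.1 fun w hw => ?_
    exact ((ProjectiveSpectrum.mem_basicOpen _ _ _).1 hw)
      (w.isPrime.mem_of_pow_mem k (by rw [hk]; exact zero_mem _)) |>.elim

theorem exists_basicOpen_le_proj {O : (Proj 𝒜).Opens} {w : Proj 𝒜} (hw : w ∈ O) :
    ∃ (n : ℕ) (_ : 0 < n) (f : A), f ∈ 𝒜 n ∧ w ∈ Proj.basicOpen 𝒜 f ∧ Proj.basicOpen 𝒜 f ≤ O := by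
  classical
  obtain ⟨_, ⟨g, rfl⟩, hwg, hgO⟩ :=
    (ProjectiveSpectrum.isTopologicalBasis_basic_opens 𝒜).exists_subset_of_mem_open
      (show w ∈ (show Set (ProjectiveSpectrum 𝒜) from (O : Set (Proj 𝒜))) from hw) O.isOpen
  obtain ⟨i, hi⟩ := Opens.mem_iSup.1 ((ProjectiveSpectrum.basicOpen_eq_union_of_projection 𝒜 g).le hwg)
  have hgi : GradedRing.proj 𝒜 i g ∈ 𝒜 i := SetLike.coe_mem _
  have : ∃ (d : ℕ) (_ : 0 < d) (h : A), h ∈ 𝒜 d ∧ h ∉ w.asHomogeneousIdeal := by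
    by_contra hc
    push Not at hc
    exact w.not_irrelevant_le ((HomogeneousIdeal.irrelevant_le _).2 fun d hd h hh => hc d hd h hh)
  obtain ⟨d, hd, h, hh, hhw⟩ := this
  refine ⟨i + d, by omega, _, SetLike.mul_mem_graded hgi hh, ?_, ?_⟩
  · rw [Proj.basicOpen_mul]
    exact ⟨hi, (ProjectiveSpectrum.mem_basicOpen _ _ _).2 hhw⟩
  · rw [Proj.basicOpen_mul]
    refine inf_le_left.trans (fun x hx => hgO ?_)
    exact (ProjectiveSpectrum.basicOpen_eq_union_of_projection 𝒜 g).ge (Opens.mem_iSup.2 ⟨i, hx⟩)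

end graded

variable {X : Scheme.{u}} {L : X.Modules} {𝒮L : RelProj.QCGrAlg X} {j : L ⟶ 𝒮L.toModule}
  (hLq : Coh.IsQCoh L) (hj : RelProj.IsGrSymAlg L 𝒮L j) (hL : PicF.IsInvertible L)

theorem basicOpen_eq_bot_of_affine {V : X.Opens} (hV : IsAffineOpen V) (a : Γ(X, V)) :
    X.basicOpen a = ⊥ ↔ IsNilpotent a := by
  constructor
  · intro h
    have h1 : (PrimeSpectrum.basicOpen a : Opens (PrimeSpectrum Γ(X, V))) = ⊥ := by
      rw [← hV.fromSpec_preimage_basicOpen a, h]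
      ext x
      simp
    exact PrimeSpectrum.basicOpen_eq_bot_iff a |>.1 h1
  · rintro ⟨k, hk⟩
    refine le_bot_iff.1 fun x hx => ?_
    have hu := (X.mem_basicOpen _ _ (X.basicOpen_le a hx)).1 hx
    have h2 := hu.pow k
    rw [← map_pow, hk, map_zero] at h2
    exact not_isUnit_zero h2 |>.elim

include hLq hj hL in
/-- A homogeneous section vanishes everywhere exactly when it is locally nilpotent. -/
theorem nv_eq_bot_iff {n : ℕ} {c : 𝒮L.presheaf.obj (op (⊤ : X.Opens))}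
    (hc : IsHom 𝒮L ⊤ n c) :
    nv 𝒮L ⊤ n c = ⊥ ↔
      ∀ x : X, ∃ (V : X.Opens) (_ : IsAffineOpen V), x ∈ V ∧ IsNilpotent (gres 𝒮L (le_top : V ≤ ⊤) c) := by
  constructor
  · intro h x
    obtain ⟨V, hV, hVU, e, a, hxV, -, he, ha⟩ := exists_local hLq hj hL hc ⊤ trivial (x := x) trivial
    refine ⟨V, hV, hxV, ?_⟩
    have hbot : X.basicOpen a = ⊥ := le_bot_iff.1 fun y hy =>
      h.le ((mem_nv_iff hLq hj hV hVU he ha (X.basicOpen_le a hy)).2 hy)
    obtain ⟨k, hk⟩ := (basicOpen_eq_bot_of_affine hV a).1 hbot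
    refine ⟨k, ?_⟩
    rw [ha, mul_pow, ← map_pow (𝒮L.str.app (op V)).hom, hk, map_zero, zero_mul]
  · intro h
    refine le_bot_iff.1 fun x hx => ?_
    obtain ⟨V, hV, hxV, k, hk⟩ := h x
    obtain ⟨W, hW, hWU, e, a, hxW, hWle, he, ha⟩ :=
      exists_local hLq hj hL hc V hxV (x := x) trivial
    have h1 := congrArg (gres 𝒮L hWle) hk
    rw [map_pow, map_zero, gres_gres, ha, mul_pow, ← map_pow, ← pow_mul] at h1
    have h2 : a ^ k = 0 :=
      str_mul_pow_inj hLq hj hW he (n := n * k) (by rw [map_zero, zero_mul]; exact h1)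
    have h3 := (mem_nv_iff hLq hj hW hWU he ha hxW).1 hx
    rw [(basicOpen_eq_bot_of_affine hW a).2 ⟨k, h2⟩] at h3
    exact h3.elim

end Groth.Agent.SymAlg11
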