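import Groth.Agent.Lib.SymAlg11.Ring

/-!
Symmetric algebras of sums.
-/

universe u

open CategoryTheory Limits

noncomputable section

namespace Groth.Agent.SymAlg11

/-- The symmetric algebra of a sum is the tensor product of the symmetric algebras. -/
theorem isPushout_sym_sum {R M N P : Type u} [CommRing R] [AddCommGroup M] [Module R M]
    [AddCommGroup N] [Module R N] [AddCommGroup P] [Module R P]
    (i₁ : M →ₗ[R] P) (i₂ : N →ₗ[R] P) (p₁ : P →ₗ[R] M) (p₂ : P →ₗ[R] N)
    (h₁₁ : ∀ m, p₁ (i₁ m) = m) (h₂₂ : ∀ n, p₂ (i₂ n) = n) (h₁₂ : ∀ n, p₁ (i₂ n) = 0)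
    (h₂₁ : ∀ m, p₂ (i₁ m) = 0) (htot : ∀ x, i₁ (p₁ x) + i₂ (p₂ x) = x)
    (f : SymmetricAlgebra R M →+* SymmetricAlgebra R P)
    (f' : SymmetricAlgebra R N →+* SymmetricAlgebra R P)
    (hf₁ : ∀ r, f (algebraMap R _ r) = algebraMap R _ r)
    (hf₂ : ∀ m, f (SymmetricAlgebra.ι R M m) = SymmetricAlgebra.ι R P (i₁ m))
    (hf'₁ : ∀ r, f' (algebraMap R _ r) = algebraMap R _ r)
    (hf'₂ : ∀ n, f' (SymmetricAlgebra.ι R N n) = SymmetricAlgebra.ι R P (i₂ n)) :
    IsPushout (CommRingCat.ofHom (algebraMap R (SymmetricAlgebra R M)))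
      (CommRingCat.ofHom (algebraMap R (SymmetricAlgebra R N)))
      (CommRingCat.ofHom f) (CommRingCat.ofHom f') := by
  have w : CommRingCat.ofHom (algebraMap R (SymmetricAlgebra R M)) ≫ CommRingCat.ofHom f =
      CommRingCat.ofHom (algebraMap R (SymmetricAlgebra R N)) ≫ CommRingCat.ofHom f' :=
    CommRingCat.hom_ext (RingHom.ext fun r => (hf₁ r).trans (hf'₁ r).symm)
  have hc : ∀ (s : PushoutCocone (CommRingCat.ofHom (algebraMap R (SymmetricAlgebra R M)))
      (CommRingCat.ofHom (algebraMap R (SymmetricAlgebra R N)))) (r : R),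
      s.inl.hom (algebraMap R _ r) = s.inr.hom (algebraMap R _ r) :=
    fun s r => ConcreteCategory.congr_hom s.condition r
  refine ⟨⟨w⟩, ⟨PushoutCocone.IsColimit.mk w (fun s => CommRingCat.ofHom (symLift
    (s.inl.hom.comp (algebraMap R _))
    ((s.inl.hom.toAddMonoidHom.comp ((SymmetricAlgebra.ι R M).comp p₁).toAddMonoidHom) +
      (s.inr.hom.toAddMonoidHom.comp ((SymmetricAlgebra.ι R N).comp p₂).toAddMonoidHom))
    fun r x => ?_)) (fun s => ?_) (fun s => ?_) (fun s m hm₁ hm₂ => ?_)⟩⟩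
  · change s.inl.hom (SymmetricAlgebra.ι R M (p₁ (r • x))) +
        s.inr.hom (SymmetricAlgebra.ι R N (p₂ (r • x))) =
      s.inl.hom (algebraMap R _ r) * (s.inl.hom (SymmetricAlgebra.ι R M (p₁ x)) +
        s.inr.hom (SymmetricAlgebra.ι R N (p₂ x)))
    rw [mul_add, ← map_mul s.inl.hom, hc s r, ← map_mul s.inr.hom, map_smul p₁, map_smul p₂,
      map_smul (SymmetricAlgebra.ι R M), map_smul (SymmetricAlgebra.ι R N), Algebra.smul_def,
      Algebra.smul_def]
  · refine CommRingCat.hom_ext (symHom_ext (fun r => ?_) (fun x => ?_))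
    · change symLift _ _ _ (f _) = _
      rw [hf₁, symLift_algebraMap]
      rfl
    · change symLift _ _ _ (f _) = _
      rw [hf₂, symLift_ι]
      change s.inl.hom (SymmetricAlgebra.ι R M (p₁ (i₁ x))) +
        s.inr.hom (SymmetricAlgebra.ι R N (p₂ (i₁ x))) = _
      rw [h₁₁, h₂₁, map_zero, map_zero, add_zero]
  · refine CommRingCat.hom_ext (symHom_ext (fun r => ?_) (fun x => ?_))
    · change symLift _ _ _ (f' _) = _
      rw [hf'₁, symLift_algebraMap]
      exact hc s r
    · change symLift _ _ _ (f' _) = _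
      rw [hf'₂, symLift_ι]
      change s.inl.hom (SymmetricAlgebra.ι R M (p₁ (i₂ x))) +
        s.inr.hom (SymmetricAlgebra.ι R N (p₂ (i₂ x))) = _
      rw [h₁₂, h₂₂, map_zero, map_zero, zero_add]
  · refine CommRingCat.hom_ext (symHom_ext (fun r => ?_) (fun x => ?_))
    · change m.hom _ = symLift _ _ _ _
      rw [symLift_algebraMap, ← hf₁]
      exact ConcreteCategory.congr_hom hm₁ _
    · change m.hom _ = symLift _ _ _ _
      rw [symLift_ι]
      conv_lhs => rw [← htot x, map_add, ← hf₂, ← hf'₂]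
      exact (map_add m.hom _ _).trans (congrArg₂ (· + ·) (ConcreteCategory.congr_hom hm₁ _)
        (ConcreteCategory.congr_hom hm₂ _))

end Groth.Agent.SymAlg11
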